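import Groth.Agent.FundLocal.Good
import Groth.Agent.InvBasic.OfBasis
import Groth.Agent.NegVanish.DualInverse
import Groth.Agent.ProjCoh.ExtTwist
import Groth.Agent.SSExist.ExtSheafHom
import Groth.Prelude.Def_ExtPow2

/-!
# The top exterior power of the conormal sheaf is invertible; `Hom` out of invertible modules
-/

set_option autoImplicit false
set_option linter.style.haveILetI false

universe u

open CategoryTheory CategoryTheory.Limits Opposite AlgebraicGeometry TopologicalSpace

namespace Groth.Agent.FundLocal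

open Groth.Agent.ModGroth Groth.Agent.SSExist

variable {P X : Scheme.{u}} (ι : X ⟶ P) [IsClosedImmersion ι] (r : ℕ)

/-- The top exterior power of the conormal sheaf is invertible. -/
theorem isInvertible_extPow {L : X.Modules} (hL : ExtPow.IsExtPow r (Omega.conormal ι) L)
    (hι : RegImm.IsRegularImmersionOfCodim RegImm.Kind.regular r ι) : PicF.IsInvertible L := by
  obtain ⟨φ, hφ⟩ := hL
  refine InvBasic.isInvertible_of_isBasis fun x => ?_
  obtain ⟨W, hxW, -, hW, hg⟩ := exists_good hι ⊤ (ι x) trivial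
  rcases hg with ⟨⟨g⟩⟩ | htriv
  · refine ⟨ι ⁻¹ᵁ W, hxW, omega ι φ g.aff g.f, fun V h => ?_⟩
    have hb := isBasis_omega φ hφ g V (homOfLE h)
    constructor
    · intro a b hab
      have := hb.1 (a₁ := fun _ => a) (a₂ := fun _ => b) (by
        simp only [Fintype.linearCombination_apply, Fin.sum_univ_one]
        exact hab)
      exact congrFun this 0
    · intro y
      obtain ⟨c, hc⟩ := hb.2 y
      simp only [Fintype.linearCombination_apply, Fin.sum_univ_one] at hc
      exact ⟨c 0, hc⟩
  · exact absurd (htriv.le (show x ∈ ι ⁻¹ᵁ W from hxW)) (by simp)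

/-- `Hom(C, N) ≅ N ⊗ C^∨` for an invertible module. -/
theorem nonempty_sheafHom_iso_tensor {C : X.Modules} (hC : PicF.IsInvertible C)
    [ModSite.HasSheafHom (O := X.sheaf) C] [DCoh.HasSheafHom C] (N : X.Modules) :
    Nonempty (CohB1.tensorMod N ((DCoh.sheafHom C).obj (Coh.structureModule X)) ≅ (ModSite.sheafHom (O := X.sheaf) C).obj N) := by
  obtain ⟨A, ⟨e⟩⟩ := NegVanish.exists_inverse hC
  let u0 : unitObj X.sheaf ≅ ModSite.unit X.sheaf :=
    haveI : IsIso (adjn X.sheaf).counit :=
      inferInstanceAs (IsIso (PresheafOfModules.sheafificationAdjunction (𝟙 (ModSite.ringSh X.sheaf).obj)).counit)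
    (asIso (adjn X.sheaf).counit).app (ModSite.unit X.sheaf)
  let eCA : ((ModSite.tensorBi X.sheaf).obj C).obj A ≅ unitObj X.sheaf := e ≪≫ u0.symm
  let eAC : ((ModSite.tensorBi X.sheaf).obj A).obj C ≅ unitObj X.sheaf :=
    ((tensorSymm (O := X.sheaf) C).app A).symm ≪≫ eCA
  let T := ProjCoh.tensorEquivalence A C eAC eCA
  let α : ModSite.sheafHom (O := X.sheaf) C ≅ tR A :=
    (ModSite.sheafHomAdj (O := X.sheaf) C).rightAdjointUniq T.toAdjunction
  let β : (DCoh.sheafHom C).obj (Coh.structureModule X) ≅ A :=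
    ((homXIso C).app (Coh.structureModule X)).symm ≪≫ α.app (Coh.structureModule X) ≪≫
      unitTensorIso (O := X.sheaf) A
  exact ⟨((ModSite.tensorBi X.sheaf).obj N).mapIso β ≪≫ (α.app N).symm⟩

end Groth.Agent.FundLocal
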