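import Groth.Agent.FundLocal.Theta
import Groth.Agent.CohDual.ExtShRes
import Groth.Agent.DQCPush.GammaD
import Groth.Prelude.Def_ExtPow2
import Groth.Prelude.Def_ModSite2

/-!
# The fundamental local isomorphism
-/

set_option autoImplicit false
set_option linter.style.haveILetI false

universe u

open CategoryTheory CategoryTheory.Limits Opposite AlgebraicGeometry TopologicalSpace

namespace Groth.Agent.FundLocal

variable {P X : Scheme.{u}} {ι : X ⟶ P} [IsClosedImmersion ι] [ModSite.HasSheafHom (O := P.sheaf) (oX ι)]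
  {F : P.Modules} [F.IsQuasicoherent] {I : InjectiveResolution F} {r : ℕ} {L : X.Modules}
  [ModSite.HasSheafHom (O := X.sheaf) L]
  {φ : ∀ U : X.affineOpens, (L.val.obj (op U.1)) ≃ₗ[Γ(X, U.1)] ↥(⋀[Γ(X, U.1)]^r ((Omega.conormal ι).val.obj (op U.1)))}
  (hφ : ∀ (U U' : X.affineOpens) (h : U'.1 ≤ U.1) (e : Fin r → (Omega.conormal ι).val.obj (op U.1)),
      L.val.map (homOfLE h).op ((φ U).symm (exteriorPower.ιMulti _ r e)) =
        (φ U').symm (exteriorPower.ιMulti _ r (fun j => (Omega.conormal ι).val.map (homOfLE h).op (e j))))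
  (hι : RegImm.IsRegularImmersionOfCodim RegImm.Kind.regular r ι)

variable (ι I r) in
/-- The cocycles of `Hom(ι_* O_X, I)` in degree `r`. -/
noncomputable abbrev zr : P.Modules := kernel (dHom ι I r)

variable (ι I r) in
/-- The underlying section of a cocycle. -/
noncomputable abbrev zrι : zr ι I r ⟶ homX ι (I.cocomplex.X r) := kernel.ι _

omit [F.IsQuasicoherent] in
lemma dHom_zrι (V : P.Opens) (z : Γ(zr ι I r, V)) : (dHom ι I r).app V ((zrι ι I r).app V z) = 0 := by
  rw [← CategoryTheory.comp_apply, ← Scheme.Modules.Hom.comp_app, kernel.condition]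
  rfl

variable (φ) in
open Classical in
/-- The value of the morphism. -/
noncomputable def thetaFun (V : P.Opens) (z : Γ(zr ι I r, V)) : Γ(cod ι (L := L) F, V) :=
  if h : ∃ v, Rel ι I φ ((zrι ι I r).app V z) v then h.choose else 0

include hφ hι in
lemma rel_thetaFun (V : P.Opens) (z : Γ(zr ι I r, V)) : Rel ι I φ ((zrι ι I r).app V z) (thetaFun φ V z) := by
  have h := exists_rel hφ hι _ (dHom_zrι V z)
  rw [thetaFun, dif_pos h]
  exact h.choose_spec

include hφ hι in
lemma thetaFun_eq {V : P.Opens} {z : Γ(zr ι I r, V)} {v : Γ(cod ι (L := L) F, V)}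
    (hv : Rel ι I φ ((zrι ι I r).app V z) v) : thetaFun φ V z = v :=
  Rel.unique hφ hι (dHom_zrι V z) (rel_thetaFun hφ hι V z) hv

include hφ hι in
lemma thetaFun_add (V : P.Opens) (z z' : Γ(zr ι I r, V)) :
    thetaFun φ V (z + z') = thetaFun φ V z + thetaFun φ V z' := by
  refine thetaFun_eq hφ hι fun W h hW hd x => ?_
  have hz : ∀ w : Γ(zr ι I r, V), (dHom ι I r).app W
      ((homX ι (I.cocomplex.X r)).presheaf.map (homOfLE h).op ((zrι ι I r).app V w)) = 0 := fun w => by
    rw [QCohLib.app_map, dHom_zrι, map_zero]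
  rw [map_add, evL_add_left, rel_thetaFun hφ hι V z W h hW (hz z) x, rel_thetaFun hφ hι V z' W h hW (hz z') x,
    ← val_add ι I hW _ _ (hz z) (hz z')]
  exact congrArg (fun q : vanI ι W [⋀^Fin r]→ₗ[Γ(P, W)] Γ(target ι F, W) => q x)
    (val_congr hW (by rw [map_add, map_add]) _ _)

include hφ hι in
lemma thetaFun_smul (V : P.Opens) (a : Γ(P, V)) (z : Γ(zr ι I r, V)) :
    thetaFun φ V (a • z) = a • thetaFun φ V z := by
  refine thetaFun_eq hφ hι fun W h hW hd x => ?_
  have hz : (dHom ι I r).app W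
      ((homX ι (I.cocomplex.X r)).presheaf.map (homOfLE h).op ((zrι ι I r).app V z)) = 0 := by
    rw [QCohLib.app_map, dHom_zrι, map_zero]
  rw [Scheme.Modules.map_smul, evL_smul_left, rel_thetaFun hφ hι V z W h hW hz x, ← val_smul ι I hW _ _ hz]
  exact congrArg (fun q : vanI ι W [⋀^Fin r]→ₗ[Γ(P, W)] Γ(target ι F, W) => q x)
    (val_congr hW (by rw [Scheme.Modules.Hom.app_smul, Scheme.Modules.map_smul]) _ _)

include hφ hι in
lemma thetaFun_res {V W : P.Opens} (h : W ≤ V) (z : Γ(zr ι I r, V)) :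
    thetaFun φ W ((zr ι I r).presheaf.map (homOfLE h).op z) = (cod ι (L := L) F).presheaf.map (homOfLE h).op (thetaFun φ V z) := by
  refine thetaFun_eq hφ hι ?_
  rw [QCohLib.app_map]
  exact (rel_thetaFun hφ hι V z).res h

/-- The morphism. -/
noncomputable def theta : zr ι I r ⟶ cod ι (L := L) F :=
  ⟨PresheafOfModules.homMk
    { app := fun V => AddCommGrpCat.ofHom (AddMonoidHom.mk' (thetaFun φ V.unop) (thetaFun_add hφ hι V.unop))
      naturality := fun V W g => by
        ext z
        exact thetaFun_res hφ hι g.unop.le z }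
    fun V => thetaFun_smul hφ hι V.unop⟩

lemma theta_app (V : P.Opens) (z : Γ(zr ι I r, V)) : (theta hφ hι).app V z = thetaFun φ V z := rfl

lemma zrι_injective (V : P.Opens) : Function.Injective ((zrι ι I r).app V) :=
  (QCohLib.mono_iff_app_injective _).1 inferInstance V

theorem epi_theta : Epi (theta (I := I) hφ hι) := by
  rw [QCohLib.epi_iff_locally_surjective]
  intro U v y hy
  obtain ⟨W, hyW, hWU, hW, hgood⟩ := exists_good hι U y hy
  refine ⟨W, hWU, ?_, hyW⟩
  rcases hgood with ⟨⟨g⟩⟩ | htriv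
  · let q := evL ι ((cod ι (L := L) F).presheaf.map (homOfLE hWU).op v) (omega ι φ g.aff g.f)
    obtain ⟨t, ht, htq⟩ := (val_bijective ι I g.aff g.f g.reg g.span).1 q
    refine ⟨OmegaSh.kerLift _ W t ht, ?_⟩
    rw [theta_app]
    have hι' := OmegaSh.ι_kerLift (dHom ι I r) W t ht
    refine (ModGroth.LocBasis.bijective_evSec (O := X.sheaf) L ((Scheme.Modules.pullback ι).obj F)
      (isBasis_omega φ hφ g)).1 (funext fun _ => ?_)
    have h1 := rel_thetaFun hφ hι W (OmegaSh.kerLift _ W t ht) W le_rfl g.aff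
      (by rw [QCohLib.map_self]; exact dHom_zrι W _) g.f
    rw [QCohLib.map_self] at h1
    refine h1.trans (Eq.trans ?_ htq)
    exact congrArg (fun q : vanI ι W [⋀^Fin r]→ₗ[Γ(P, W)] Γ(target ι F, W) => q g.f)
      (val_congr g.aff (by rw [QCohLib.map_self]; exact hι') _ _)
  · haveI := subsingleton_of_empty (homL ι (L := L) F) htriv
    exact ⟨0, Subsingleton.elim _ _⟩

include hφ hι in
/-- Sections on which the morphism vanishes. -/
theorem eq_boundary_of_theta_eq_zero {W : P.Opens} (g : Good ι r W) (z : Γ(zr ι I r, W))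
    (hz : thetaFun φ W z = 0) :
    (∀ (_ : r = 0), z = 0) ∧ ∀ (j : ℕ) (hj : r = j + 1), ∃ s : Γ(homX ι (I.cocomplex.X j), W),
      cocy ι I (j + 1) W ((dHom ι I j).app W s) = cocy ι I r W ((zrι ι I r).app W z) := by
  have h1 := rel_thetaFun hφ hι W z W le_rfl g.aff (by rw [QCohLib.map_self]; exact dHom_zrι W _) g.f
  rw [QCohLib.map_self, hz] at h1
  have h0 : val ι I g.aff ((zrι ι I r).app W z) (dHom_zrι W z) g.f = 0 := by
    refine Eq.trans ?_ (h1.symm.trans ?_)
    · exact congrArg (fun q : vanI ι W [⋀^Fin r]→ₗ[Γ(P, W)] Γ(target ι F, W) => q g.f)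
        (val_congr g.aff (QCohLib.map_self _ le_rfl _).symm _ _)
    · have h2 : evL ι (0 : Γ(cod ι (L := L) F, W)) (omega ι φ g.aff g.f) = 0 := by
        have := evL_smul_left ι (0 : Γ(P, W)) (0 : Γ(cod ι (L := L) F, W)) (omega ι φ g.aff g.f)
        rwa [smul_zero, zero_smul] at this
      exact h2
  obtain ⟨ha, hb⟩ := (val_bijective ι I g.aff g.f g.reg g.span).2 _ _ h0
  exact ⟨fun hr => zrι_injective W (by rw [ha hr, map_zero]), hb⟩

include hφ hι in
lemma dHom_comp_theta (j : ℕ) (hj : r = j + 1) (f' : homX ι (I.cocomplex.X j) ⟶ zr ι I r)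
    (hf : ∀ (V : P.Opens) (s : Γ(homX ι (I.cocomplex.X j), V)), cocy ι I r V ((zrι ι I r).app V (f'.app V s)) =
      cocy ι I (j + 1) V ((dHom ι I j).app V s)) :
    f' ≫ theta hφ hι = 0 := by
  subst hj
  refine Scheme.Modules.hom_ext _ _ fun V => ?_
  ext s
  show thetaFun φ V (f'.app V s) = 0
  refine thetaFun_eq hφ hι fun W h hW hd x => ?_
  have e1 : (zrι ι I (j + 1)).app V (f'.app V s) = (dHom ι I j).app V s :=
    cocy_injective ι I (j + 1) V (hf V s)
  have e2 : (homX ι (I.cocomplex.X (j + 1))).presheaf.map (homOfLE h).op ((zrι ι I (j + 1)).app V (f'.app V s)) =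
      (dHom ι I j).app W ((homX ι (I.cocomplex.X j)).presheaf.map (homOfLE h).op s) := by
    rw [e1, ← QCohLib.app_map]
  have hd2 : (dHom ι I (j + 1)).app W
      ((dHom ι I j).app W ((homX ι (I.cocomplex.X j)).presheaf.map (homOfLE h).op s)) = 0 := e2 ▸ hd
  rw [val_congr hW e2 hd hd2, val_dHom]
  have := evL_smul_left ι (0 : Γ(P, W)) ((cod ι (L := L) F).presheaf.map (homOfLE h).op 0) (omega ι φ hW x)
  rw [zero_smul, zero_smul] at this
  rwa [map_zero]

omit [F.IsQuasicoherent] in
lemma dHom_comp (j : ℕ) : dHom ι I j ≫ dHom ι I (j + 1) = 0 := by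
  exact ((ModSite.sheafHom (O := P.sheaf) (oX ι)).map_comp _ _).symm.trans
    ((congrArg (ModSite.sheafHom (O := P.sheaf) (oX ι)).map (I.cocomplex.d_comp_d _ _ _)).trans
      ((ModSite.sheafHom (O := P.sheaf) (oX ι)).map_zero _ _))

include hφ hι in
/-- **The fundamental local isomorphism, through a chosen resolution.** -/
theorem nonempty_homology_iso :
    Nonempty ((((ModSite.sheafHom (O := P.sheaf) (oX ι)).mapHomologicalComplex (ComplexShape.up ℕ)).obj I.cocomplex).homology r ≅
      cod ι (L := L) F) := by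
  haveI : (ModSite.sheafHom (O := P.sheaf) (oX ι)).Additive := ModSite.sheafHom_additive (O := P.sheaf) (oX ι)
  haveI := epi_theta (I := I) hφ hι
  let C := ((ModSite.sheafHom (O := P.sheaf) (oX ι)).mapHomologicalComplex (ComplexShape.up ℕ)).obj I.cocomplex
  have hker : (ShortComplex.mk (zrι ι I r) (dHom ι I r) (kernel.condition _)).Exact :=
    ShortComplex.exact_of_f_is_kernel _ (kernelIsKernel _)
  match r with
  | 0 =>
    haveI : Mono (theta (I := I) hφ hι) := by
      rw [QCohLib.mono_iff_app_injective]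
      intro V
      rw [injective_iff_map_eq_zero]
      intro z hz
      refine QCohLib.section_ext _ _ fun y hy => ?_
      obtain ⟨W, hyW, hWV, hW, hgood⟩ := exists_good hι V y hy
      rw [← TopCat.Presheaf.germ_res_apply (zr ι I 0).presheaf (homOfLE hWV) y hyW,
        ← TopCat.Presheaf.germ_res_apply (zr ι I 0).presheaf (homOfLE hWV) y hyW, map_zero]
      refine congrArg (fun q => (zr ι I 0).presheaf.germ W y hyW q) ?_
      rcases hgood with ⟨⟨g⟩⟩ | htriv
      · refine (eq_boundary_of_theta_eq_zero hφ hι g _ ?_).1 rfl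
        rw [thetaFun_res hφ hι, show thetaFun φ V z = 0 from hz, map_zero]
      · exact zrι_injective W ((homX_eq_zero_of_empty _ htriv _).trans (map_zero _).symm)
    haveI : IsIso (theta (I := I) hφ hι) := isIso_of_mono_of_epi _
    obtain ⟨e⟩ := CohDual.nonempty_complex_zero (A := ModSite.Mod P.sheaf) C (Iso.refl (homX ι (I.cocomplex.X 0)))
      (Iso.refl (homX ι (I.cocomplex.X (0 + 1)))) (dHom ι I 0) (by rw [Iso.refl_hom, Iso.refl_hom]; exact (Category.comp_id _).trans (Category.id_comp _).symm)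
      (zrι ι I 0) (kernel.condition (dHom ι I 0)) hker ((QCohLib.mono_iff_app_injective _).2 zrι_injective)
    let e' : zr ι I 0 ≅ cod ι (L := L) F := asIso (theta (I := I) hφ hι)
    exact ⟨e ≪≫ e'⟩
  | j + 1 =>
    let f' : homX ι (I.cocomplex.X j) ⟶ zr ι I (j + 1) := kernel.lift _ (dHom ι I j) (dHom_comp j)
    have hf' : ∀ (V : P.Opens) (s : Γ(homX ι (I.cocomplex.X j), V)),
        cocy ι I (j + 1) V ((zrι ι I (j + 1)).app V (f'.app V s)) = cocy ι I (j + 1) V ((dHom ι I j).app V s) :=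
      fun V s => by
        rw [← CategoryTheory.comp_apply, ← Scheme.Modules.Hom.comp_app, kernel.lift_ι]
    have hex : (ShortComplex.mk f' (theta hφ hι) (dHom_comp_theta hφ hι j rfl f' hf')).Exact := by
      refine DQCPush.exact_of_locally_lift _ fun U z hz p hp => ?_
      obtain ⟨W, hyW, hWU, hW, hgood⟩ := exists_good hι U p hp
      refine ⟨W, homOfLE hWU, hyW, ?_⟩
      rcases hgood with ⟨⟨g⟩⟩ | htriv
      · obtain ⟨s, hs⟩ := (eq_boundary_of_theta_eq_zero hφ hι g ((zr ι I (j + 1)).presheaf.map (homOfLE hWU).op z) (by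
          rw [thetaFun_res hφ hι]
          exact (congrArg _ (show thetaFun φ U z = 0 from hz)).trans (map_zero _))).2 j rfl
        exact ⟨s, zrι_injective W (cocy_injective ι I (j + 1) W ((hf' W s).trans hs))⟩
      · exact ⟨0, zrι_injective W ((homX_eq_zero_of_empty _ htriv _).trans (homX_eq_zero_of_empty _ htriv _).symm)⟩
    haveI : Mono (zrι ι I (j + 1)) := (QCohLib.mono_iff_app_injective _).2 zrι_injective
    obtain ⟨e⟩ := CohDual.nonempty_homology_iso (A := P.Modules)
      (S := ShortComplex.mk (dHom ι I j) (dHom ι I (j + 1)) (dHom_comp j))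
      (zrι ι I (j + 1)) (kernel.condition _) hker f' (kernel.lift_ι _ _ _) (theta hφ hι)
      (dHom_comp_theta hφ hι j rfl f' hf') hex
    exact CohDual.nonempty_complex_succ (A := ModSite.Mod P.sheaf) C j (Iso.refl (homX ι (I.cocomplex.X j)))
      (Iso.refl (homX ι (I.cocomplex.X (j + 1)))) (Iso.refl (homX ι (I.cocomplex.X (j + 1 + 1)))) (dHom ι I j) (dHom ι I (j + 1))
      (by rw [Iso.refl_hom, Iso.refl_hom]; exact (Category.comp_id _).trans (Category.id_comp _).symm)
      (by rw [Iso.refl_hom, Iso.refl_hom]; exact (Category.comp_id _).trans (Category.id_comp _).symm)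
      (dHom_comp j) ⟨e⟩

omit [ModSite.HasSheafHom (O := P.sheaf) (oX ι)] [F.IsQuasicoherent] [ModSite.HasSheafHom (O := X.sheaf) L] in
/-- **The fundamental local isomorphism.** -/
theorem nonempty_extSh_iso {L : X.Modules} [ModSite.HasSheafHom (O := X.sheaf) L]
    [ModSite.HasSheafHom (O := P.sheaf) (oX ι)] [HasInjectiveResolutions (ModSite.Mod P.sheaf)]
    (F : P.Modules) (hF : Coh.IsQCoh F) (hL : ExtPow.IsExtPow r (Omega.conormal ι) L)
    (hι : RegImm.IsRegularImmersionOfCodim RegImm.Kind.regular r ι) :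
    Nonempty ((ModSite.extSh (O := P.sheaf) (oX ι) r).obj F ≅ cod ι (L := L) F) := by
  obtain ⟨φ, hφ⟩ := hL
  haveI : F.IsQuasicoherent := hF
  haveI : (ModSite.sheafHom (O := P.sheaf) (oX ι)).Additive := ModSite.sheafHom_additive (O := P.sheaf) (oX ι)
  let F' : ModSite.Mod P.sheaf := F
  let I : InjectiveResolution F' := (HasInjectiveResolution.out (Z := F')).some
  obtain ⟨e⟩ := nonempty_homology_iso (I := I) hφ hι
  exact ⟨I.isoRightDerivedObj (ModSite.sheafHom (O := P.sheaf) (oX ι)) r ≪≫ e⟩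

end Groth.Agent.FundLocal
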