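import Groth.Agent.ConormalSection.TestHom
import Groth.Agent.ConormalSection.SpanPull
import Groth.Agent.QCohLib.Basic
import Mathlib.AlgebraicGeometry.Morphisms.ClosedImmersion
import Mathlib.RingTheory.Ideal.Quotient.Operations

/-!
# Sections of the pullback along a closed immersion over an affine open
-/

set_option autoImplicit false
set_option linter.style.haveILetI false

universe u

open CategoryTheory Opposite AlgebraicGeometry TopologicalSpace

namespace Groth.Agent.FundLocal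

variable {P X : Scheme.{u}} (ι : X ⟶ P) [IsClosedImmersion ι] (M : P.Modules) [M.IsQuasicoherent]

lemma pullRes_le_rfl {V : P.Opens} (m : Γ(M, V)) :
    ConormalSection.pullRes ι M (le_refl (ι ⁻¹ᵁ V)) m = OmegaSh.pullSect ι M V m :=
  QCohLib.map_self _ le_rfl _

theorem pullSect_surjective {V : P.Opens} (hV : IsAffineOpen V) :
    Function.Surjective (OmegaSh.pullSect ι M V) := by
  intro s
  have hsurj := (isClosedImmersion_iff_isAffineHom.1 ‹IsClosedImmersion ι›).2 V hV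
  have hs : s ∈ Submodule.span Γ(X, ι ⁻¹ᵁ V) (Set.range (ConormalSection.pullRes ι M (le_refl (ι ⁻¹ᵁ V)))) := by
    rw [ConormalSection.span_pullRes ι M hV (hV.preimage ι) le_rfl]
    trivial
  induction hs using Submodule.span_induction with
  | mem z hz => obtain ⟨m, rfl⟩ := hz; exact ⟨m, (pullRes_le_rfl ι M m).symm⟩
  | zero => exact ⟨0, map_zero _⟩
  | add z w _ _ hz hw =>
    obtain ⟨a, rfl⟩ := hz; obtain ⟨b, rfl⟩ := hw
    exact ⟨a + b, map_add _ _ _⟩
  | smul c z _ hz =>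
    obtain ⟨a, rfl⟩ := hz
    obtain ⟨r, rfl⟩ := hsurj c
    exact ⟨r • a, OmegaSh.pullSect_smul ι M V r a⟩

theorem pullSect_eq_zero {V : P.Opens} (hV : IsAffineOpen V) (m : Γ(M, V))
    (hm : OmegaSh.pullSect ι M V m = 0) :
    m ∈ RingHom.ker (ι.app V).hom • (⊤ : Submodule Γ(P, V) Γ(M, V)) := by
  let J := RingHom.ker (ι.app V).hom
  let e : Γ(P, V) ⧸ J ≃+* Γ(X, ι ⁻¹ᵁ V) := RingHom.quotientKerEquivOfSurjective
    ((isClosedImmersion_iff_isAffineHom.1 ‹IsClosedImmersion ι›).2 V hV)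
  let Q := Γ(M, V) ⧸ (J • (⊤ : Submodule Γ(P, V) Γ(M, V)))
  letI : Module Γ(X, ι ⁻¹ᵁ V) Q := Module.compHom Q e.symm.toRingHom
  let l : Γ(M, V) →+ ModuleCat.of Γ(X, ι ⁻¹ᵁ V) Q := (Submodule.mkQ (J • (⊤ : Submodule Γ(P, V) Γ(M, V)))).toAddMonoidHom
  have hl : ∀ b z, l (b • z) = ι.appLE V (ι ⁻¹ᵁ V) le_rfl b • l z := fun b z => by
    rw [← Scheme.Hom.app_eq_appLE]
    show Submodule.mkQ (J • (⊤ : Submodule Γ(P, V) Γ(M, V))) (b • z) = e.symm (ι.app V b) • Submodule.mkQ (J • (⊤ : Submodule Γ(P, V) Γ(M, V))) z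
    rw [show ι.app V b = e (Ideal.Quotient.mk J b) from rfl, e.symm_apply_apply, map_smul]
    rfl
  obtain ⟨N, ψ, r, hr, -, hra, hrl⟩ :=
    ConormalSection.exists_testHom ι M hV (hV.preimage ι) le_rfl (ModuleCat.of Γ(X, ι ⁻¹ᵁ V) Q) l hl
  have h0 : r (l m) = r 0 := by
    have hz := hra 0 0
    rw [add_zero, left_eq_add] at hz
    rw [← hrl m, pullRes_le_rfl, hm, map_zero, hz]
  exact (Submodule.Quotient.mk_eq_zero _).1 (hr h0)

end Groth.Agent.FundLocal
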