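import Groth.Agent.FundLocal.SectStair
import Groth.Agent.FundLocal.PullAffine
import Groth.Agent.ConormalSection.Ideal
import Groth.Agent.ModGroth.StalkBasis
import Groth.Agent.QCohLib.Sections
import Groth.Agent.S18939
import Groth.Prelude.Def_ExtPow2
import Groth.Prelude.Def_Omega2
import Mathlib.LinearAlgebra.ExteriorPower.Basic
import Mathlib.LinearAlgebra.Determinant

/-!
# The top exterior power of the conormal sheaf over an affine open with a regular sequence
-/

set_option autoImplicit false
set_option linter.style.haveILetI false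

universe u

open CategoryTheory Opposite AlgebraicGeometry TopologicalSpace

namespace Groth.Agent.FundLocal

open Groth.Agent.ModGroth

/-- The top exterior power of a free module is free on the product of a basis. -/
theorem bijective_smul_ιMulti {R M : Type u} [CommRing R] [AddCommGroup M] [Module R M] {r : ℕ}
    (b : Module.Basis (Fin r) R M) :
    Function.Bijective (fun c : R => c • exteriorPower.ιMulti R r ⇑b) := by
  classical
  let D : ↥(⋀[R]^r M) →ₗ[R] R := exteriorPower.alternatingMapLinearEquiv b.det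
  have hD : D (exteriorPower.ιMulti R r ⇑b) = 1 := by
    rw [exteriorPower.alternatingMapLinearEquiv_apply_ιMulti, Module.Basis.det_self]
  refine ⟨fun c c' h => ?_, fun z => ?_⟩
  · have h' := congrArg D h
    simpa only [map_smul, hD, smul_eq_mul, mul_one] using h'
  · refine ⟨D z, ?_⟩
    have key : (LinearMap.toSpanSingleton R _ (exteriorPower.ιMulti R r ⇑b)).comp D = LinearMap.id := by
      refine exteriorPower.linearMap_ext (Module.Basis.ext_alternating b fun v hv => ?_)
      simp only [LinearMap.compAlternatingMap_apply, LinearMap.comp_apply, LinearMap.id_apply,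
        LinearMap.toSpanSingleton_apply]
      let σ : Equiv.Perm (Fin r) := Equiv.ofBijective v (Finite.injective_iff_bijective.1 hv)
      rw [show (fun i => b (v i)) = ⇑b ∘ σ from rfl, AlternatingMap.map_perm, Units.smul_def, map_zsmul, hD, smul_assoc,
        _root_.one_smul]
    exact LinearMap.congr_fun key z

variable {P X : Scheme.{u}} (ι : X ⟶ P) [IsClosedImmersion ι]

/-- An affine open as an element of `affineOpens`, pulled back. -/
abbrev preAff {V : P.Opens} (hV : IsAffineOpen V) : X.affineOpens := ⟨ι ⁻¹ᵁ V, hV.preimage ι⟩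

lemma vanI_eq {V : P.Opens} (hV : IsAffineOpen V) : vanI ι V = ι.ker.ideal ⟨V, hV⟩ := (ι.ker_apply ⟨V, hV⟩).symm

/-- A vanishing function as a section of the ideal sheaf. -/
noncomputable def liftFun {V : P.Opens} (hV : IsAffineOpen V) (a : vanI ι V) : Γ(ClSub.idealMod ι.ker, V) :=
  (ConormalSection.exists_idealSect_eq ι.ker ⟨V, hV⟩ a.1 (vanI_eq ι hV ▸ a.2)).choose

lemma idealSect_liftFun {V : P.Opens} (hV : IsAffineOpen V) (a : vanI ι V) :
    OmegaSh.idealSect ι.ker V (liftFun ι hV a) = a.1 :=
  (ConormalSection.exists_idealSect_eq ι.ker ⟨V, hV⟩ a.1 (vanI_eq ι hV ▸ a.2)).choose_spec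

/-- `liftFun`, linearly. -/
noncomputable def liftI {V : P.Opens} (hV : IsAffineOpen V) : vanI ι V →ₗ[Γ(P, V)] Γ(ClSub.idealMod ι.ker, V) where
  toFun := liftFun ι hV
  map_add' a b := by
    apply ConormalSection.idealSect_injective
    rw [map_add, idealSect_liftFun, idealSect_liftFun, idealSect_liftFun]
    rfl
  map_smul' c a := by
    apply ConormalSection.idealSect_injective
    rw [RingHom.id_apply, ConormalSection.idealSect_smul, idealSect_liftFun, idealSect_liftFun]
    rfl

lemma idealSect_liftI {V : P.Opens} (hV : IsAffineOpen V) (a : vanI ι V) :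
    OmegaSh.idealSect ι.ker V (liftI ι hV a) = a.1 :=
  idealSect_liftFun ι hV a

lemma liftI_res {V W : P.Opens} (hV : IsAffineOpen V) (hW : IsAffineOpen W) (h : W ≤ V) (a : vanI ι V) :
    (ClSub.idealMod ι.ker).presheaf.map (homOfLE h).op (liftI ι hV a) =
      liftI ι hW ⟨P.presheaf.map (homOfLE h).op a.1, app_res_eq_zero ι h a.1 a.2⟩ := by
  apply ConormalSection.idealSect_injective
  rw [idealSect_liftI]
  refine (congrArg (OmegaSh.fnSect P W) (QCohLib.app_map (ClSub.idealModι ι.ker) h (liftI ι hV a))).trans ?_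
  exact congrArg (P.presheaf.map (homOfLE h).op) (idealSect_liftI ι hV a)

/-- The class of a section of the ideal sheaf in the conormal sheaf. -/
noncomputable def clsM (V : P.Opens) : Γ(ClSub.idealMod ι.ker, V) →+ (Omega.conormal ι).val.obj (op (ι ⁻¹ᵁ V)) :=
  (OmegaSh.pullSect ι (ClSub.idealMod ι.ker) V).hom

lemma clsM_smul {V : P.Opens} (c : Γ(P, V)) (s : Γ(ClSub.idealMod ι.ker, V)) :
    clsM ι V (c • s) = (show Γ(X, ι ⁻¹ᵁ V) from ι.app V c) • clsM ι V s :=
  OmegaSh.pullSect_smul ι _ V c s

/-- The class of a vanishing function in the conormal sheaf. -/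
noncomputable def cls {V : P.Opens} (hV : IsAffineOpen V) (a : vanI ι V) :
    (Omega.conormal ι).val.obj (op (ι ⁻¹ᵁ V)) :=
  clsM ι V (liftI ι hV a)

lemma cls_add {V : P.Opens} (hV : IsAffineOpen V) (a b : vanI ι V) : cls ι hV (a + b) = cls ι hV a + cls ι hV b := by
  rw [cls, map_add, map_add]
  rfl

lemma cls_smul {V : P.Opens} (hV : IsAffineOpen V) (c : Γ(P, V)) (a : vanI ι V) :
    cls ι hV (c • a) = (show Γ(X, ι ⁻¹ᵁ V) from ι.app V c) • cls ι hV a := by
  rw [cls, map_smul, clsM_smul]
  rfl

lemma cls_res {V W : P.Opens} (hV : IsAffineOpen V) (hW : IsAffineOpen W) (h : W ≤ V) (a : vanI ι V) :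
    (Omega.conormal ι).val.map (homOfLE (ι.preimage_mono h)).op (cls ι hV a) =
      cls ι hW ⟨P.presheaf.map (homOfLE h).op a.1, app_res_eq_zero ι h a.1 a.2⟩ := by
  rw [cls, cls, ← liftI_res ι hV hW h a]
  exact (OmegaSh.pullSect_map ι (ClSub.idealMod ι.ker) h _).symm

/-- **The conormal sheaf is free on a regular generating sequence.** -/
theorem exists_basis_cls {V : P.Opens} (hV : IsAffineOpen V) {r : ℕ} (f : Fin r → vanI ι V)
    (hreg : RingTheory.Sequence.IsWeaklyRegular Γ(P, V) (List.ofFn fun i => (f i : Γ(P, V))))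
    (hspan : Ideal.span (Set.range fun i => (f i : Γ(P, V))) = vanI ι V) :
    ∃ b : Module.Basis (Fin r) Γ(X, ι ⁻¹ᵁ V) ((Omega.conormal ι).val.obj (op (ι ⁻¹ᵁ V))),
      ∀ i, b i = cls ι hV (f i) := by
  classical
  haveI := ConormalSection.isQuasicoherent_idealMod ι.ker
  have hsurj := (isClosedImmersion_iff_isAffineHom.1 ‹IsClosedImmersion ι›).2 V hV
  have hsp : ⊤ ≤ Submodule.span Γ(X, ι ⁻¹ᵁ V) (Set.range fun i => cls ι hV (f i)) := by
    intro s _
    obtain ⟨m, rfl⟩ := pullSect_surjective ι (ClSub.idealMod ι.ker) hV s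
    let a : vanI ι V := ⟨OmegaSh.idealSect ι.ker V m, by
      rw [vanI_eq ι hV]; exact ConormalSection.idealSect_mem ι.ker ⟨V, hV⟩ m⟩
    have hm : m = liftI ι hV a := ConormalSection.idealSect_injective _ _ (idealSect_liftI ι hV a).symm
    have ha : a.1 ∈ Ideal.span (Set.range fun i => (f i : Γ(P, V))) := hspan.symm ▸ a.2
    obtain ⟨c, hc⟩ := (Ideal.mem_span_range_iff_exists_fun).1 ha
    have ha' : a = ∑ i, c i • f i := Subtype.ext (by rw [AddSubmonoidClass.coe_finset_sum]; exact hc.symm)
    show clsM ι V m ∈ _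
    rw [hm, ha', map_sum, map_sum]
    refine Submodule.sum_mem _ fun i _ => ?_
    rw [map_smul, clsM_smul]
    exact Submodule.smul_mem _ _ (Submodule.subset_span ⟨i, rfl⟩)
  have hli : LinearIndependent Γ(X, ι ⁻¹ᵁ V) (fun i => cls ι hV (f i)) := by
    rw [Fintype.linearIndependent_iff]
    intro g hg i
    choose c hc using fun i => hsurj (g i)
    have h0 : clsM ι V (liftI ι hV (∑ i, c i • f i)) = 0 := by
      rw [map_sum, map_sum]
      refine Eq.trans (Finset.sum_congr rfl fun j _ => ?_) hg
      rw [map_smul, clsM_smul, hc j]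
      rfl
    have hmem := pullSect_eq_zero ι (ClSub.idealMod ι.ker) hV _ h0
    have hsq : (∑ i, c i • f i : vanI ι V).1 ∈ vanI ι V * vanI ι V := by
      rw [← idealSect_liftI ι hV (∑ i, c i • f i)]
      refine Submodule.smul_induction_on hmem (fun a ha m _ => ?_) fun x y hx hy => ?_
      · rw [ConormalSection.idealSect_smul]
        exact Ideal.mul_mem_mul ha (by rw [vanI_eq ι hV]; exact ConormalSection.idealSect_mem ι.ker ⟨V, hV⟩ m)
      · rw [map_add]; exact add_mem hx hy
    have hci : c i ∈ vanI ι V := by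
      by_cases htop : vanI ι V = ⊤
      · rw [htop]; trivial
      obtain ⟨b, hb⟩ := Groth.Agent.S18939.result htop r f
        (RegSeq.isKoszulRegularSeq_of_isWeaklyRegular hreg) hspan
      have h1 : (vanI ι V).toCotangent (∑ i, c i • f i) = 0 := by
        rw [Ideal.toCotangent_eq_zero, pow_two]
        exact hsq
      have h2 : ∑ j, Ideal.Quotient.mk (vanI ι V) (c j) • b j = 0 := by
        rw [← h1, map_sum]
        refine Finset.sum_congr rfl fun j _ => ?_
        rw [map_smul, hb j]
        rfl
      exact Ideal.Quotient.eq_zero_iff_mem.1 (Fintype.linearIndependent_iff.1 b.linearIndependent _ h2 i)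
    rw [← hc i]
    exact hci
  exact ⟨Module.Basis.mk hli hsp, fun i => Module.Basis.mk_apply hli hsp i⟩

section Omega

variable {r : ℕ} {L : X.Modules}
  (φ : ∀ U : X.affineOpens, (L.val.obj (op U.1)) ≃ₗ[Γ(X, U.1)] ↥(⋀[Γ(X, U.1)]^r ((Omega.conormal ι).val.obj (op U.1))))

/-- The wedge of the classes of vanishing functions. -/
noncomputable def omega {V : P.Opens} (hV : IsAffineOpen V) (x : Fin r → vanI ι V) : L.val.obj (op (ι ⁻¹ᵁ V)) :=
  (φ (preAff ι hV)).symm (exteriorPower.ιMulti _ r fun j => cls ι hV (x j))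

lemma omega_update {V : P.Opens} (hV : IsAffineOpen V) [DecidableEq (Fin r)] (x : Fin r → vanI ι V) (i : Fin r)
    (y : vanI ι V) :
    omega ι φ hV (Function.update x i y) =
      (φ (preAff ι hV)).symm (exteriorPower.ιMulti _ r (Function.update (fun j => cls ι hV (x j)) i (cls ι hV y))) := by
  rw [omega]
  congr 2
  exact funext fun j => Function.apply_update (fun _ => cls ι hV) x i y j

lemma omega_res (hφ : ∀ (U U' : X.affineOpens) (h : U'.1 ≤ U.1) (e : Fin r → (Omega.conormal ι).val.obj (op U.1)),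
      L.val.map (homOfLE h).op ((φ U).symm (exteriorPower.ιMulti _ r e)) =
        (φ U').symm (exteriorPower.ιMulti _ r (fun j => (Omega.conormal ι).val.map (homOfLE h).op (e j))))
    {V W : P.Opens} (hV : IsAffineOpen V) (hW : IsAffineOpen W) (h : W ≤ V) (x : Fin r → vanI ι V) :
    L.val.map (homOfLE (ι.preimage_mono h)).op (omega ι φ hV x) =
      omega ι φ hW (fun i => ⟨P.presheaf.map (homOfLE h).op (x i).1, app_res_eq_zero ι h _ (x i).2⟩) := by
  refine (hφ (preAff ι hV) (preAff ι hW) (ι.preimage_mono h) _).trans ?_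
  exact congrArg (fun e => (φ (preAff ι hW)).symm (exteriorPower.ιMulti _ r e)) (funext fun j => cls_res ι hV hW h (x j))

/-- On an affine open the wedge of a regular generating sequence is a generator. -/
theorem bijective_omega {V : P.Opens} (hV : IsAffineOpen V) (f : Fin r → vanI ι V)
    (hreg : RingTheory.Sequence.IsWeaklyRegular Γ(P, V) (List.ofFn fun i => (f i : Γ(P, V))))
    (hspan : Ideal.span (Set.range fun i => (f i : Γ(P, V))) = vanI ι V) :
    Function.Bijective (fun c : Γ(X, ι ⁻¹ᵁ V) => c • omega ι φ hV f) := by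
  obtain ⟨b, hb⟩ := exists_basis_cls ι hV f hreg hspan
  have h1 := (φ (preAff ι hV)).symm.bijective.comp (bijective_smul_ιMulti b)
  have he : (fun c : Γ(X, ι ⁻¹ᵁ V) => c • omega ι φ hV f) =
      fun c => (φ (preAff ι hV)).symm (c • exteriorPower.ιMulti _ r ⇑b) := funext fun c => by
    refine Eq.trans ?_ ((φ (preAff ι hV)).symm.map_smul c _).symm
    exact congrArg (fun e => c • (φ (preAff ι hV)).symm (exteriorPower.ιMulti _ r e)) (funext hb).symm
  rw [he]
  exact h1

end Omega

end Groth.Agent.FundLocal
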