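import Groth.Agent.FundLocal.SectVal
import Groth.Agent.FundLocal.ConormalOmega
import Groth.Prelude.Def_RegImm
import Mathlib.AlgebraicGeometry.Morphisms.Flat

/-!
# Affine opens on which the immersion is cut out by a regular sequence
-/

set_option autoImplicit false
set_option linter.style.haveILetI false

universe u

open CategoryTheory Opposite AlgebraicGeometry TopologicalSpace

namespace Groth.Agent.FundLocal

open Groth.Agent.ModGroth

variable {P X : Scheme.{u}} (ι : X ⟶ P) [IsClosedImmersion ι] (r : ℕ)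

/-- An affine open on which `X` is cut out by a weakly regular sequence of length `r`. -/
structure Good (V : P.Opens) where
  aff : IsAffineOpen V
  f : Fin r → vanI ι V
  reg : RingTheory.Sequence.IsWeaklyRegular Γ(P, V) (List.ofFn fun i => (f i : Γ(P, V)))
  span : Ideal.span (Set.range fun i => (f i : Γ(P, V))) = vanI ι V

variable {ι r}

/-- Affine subopens of good opens are good. -/
noncomputable def Good.res {V W : P.Opens} (g : Good ι r V) (hW : IsAffineOpen W) (h : W ≤ V) : Good ι r W where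
  aff := hW
  f i := resI ι h (g.f i)
  reg := by
    let φ := (P.presheaf.map (homOfLE h).op).hom
    letI := φ.toAlgebra
    haveI : Module.Flat Γ(P, V) Γ(P, W) := by
      have hf : φ.Flat := by
        have h1 := Flat.flat_appLE (𝟙 P) g.aff hW (show W ≤ (𝟙 P) ⁻¹ᵁ V from h)
        rwa [show (𝟙 P : P ⟶ P).appLE V W h = P.presheaf.map (homOfLE h).op by simp [Scheme.Hom.appLE]; rfl] at h1
      exact hf
    have h1 := g.reg.of_flat (S := Γ(P, W))
    rw [List.map_ofFn] at h1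
    exact h1
  span := by
    have hmap : (ι.ker.ideal ⟨V, g.aff⟩).map (P.presheaf.map (homOfLE h).op).hom = ι.ker.ideal ⟨W, hW⟩ :=
      ι.ker.map_ideal (U := ⟨W, hW⟩) (V := ⟨V, g.aff⟩) h
    rw [← vanI_eq ι g.aff, ← vanI_eq ι hW, ← g.span, Ideal.map_span, ← Set.range_comp] at hmap
    exact hmap

/-- Good opens and opens avoiding `X` form a basis. -/
theorem exists_good (hι : RegImm.IsRegularImmersionOfCodim RegImm.Kind.regular r ι) (O : P.Opens) (y : P) (hy : y ∈ O) :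
    ∃ W : P.Opens, y ∈ W ∧ W ≤ O ∧ IsAffineOpen W ∧ (Nonempty (Good ι r W) ∨ ι ⁻¹ᵁ W = ⊥) := by
  by_cases hX : y ∈ Set.range ι
  · obtain ⟨z, rfl⟩ := hX
    obtain ⟨U, hzU, -, rs, hlen, hreg, hker⟩ := hι.2 z
    obtain ⟨W, hW, hyW, hWO⟩ := exists_isAffineOpen_mem_and_subset (U := O ⊓ U.1) (show ι z ∈ O ⊓ U.1 from ⟨hy, hzU⟩)
    subst hlen
    have hofn : List.ofFn (fun i : Fin rs.length => rs[(i : ℕ)]) = rs := List.ofFn_getElem
    let g : Good ι rs.length U.1 :=
      { aff := U.2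
        f := fun i => ⟨rs[(i : ℕ)], by
          show rs[(i : ℕ)] ∈ RingHom.ker (ι.app U.1).hom
          rw [hker]
          exact Ideal.subset_span (List.getElem_mem i.2)⟩
        reg := by rw [hofn]; exact RingTheory.Sequence.IsRegular.toIsWeaklyRegular hreg
        span := by
          show Ideal.span (Set.range fun i : Fin rs.length => rs[(i : ℕ)]) = RingHom.ker (ι.app U.1).hom
          rw [hker, Ideal.ofList]
          refine congrArg Ideal.span (Set.ext fun a => ?_)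
          rw [Set.mem_setOf_eq, List.mem_iff_getElem, Set.mem_range]
          exact ⟨fun ⟨i, hi⟩ => ⟨i.1, i.2, hi⟩, fun ⟨i, hi, h⟩ => ⟨⟨i, hi⟩, h⟩⟩ }
    exact ⟨W, hyW, fun w hw => (hWO hw).1, hW, Or.inl ⟨g.res hW fun w hw => (hWO hw).2⟩⟩
  · obtain ⟨W, hW, hyW, hWO⟩ := exists_isAffineOpen_mem_and_subset
      (U := O ⊓ ⟨(Set.range ι)ᶜ, ι.isClosedEmbedding.isClosed_range.isOpen_compl⟩) (show y ∈ O ⊓ ⟨(Set.range ι)ᶜ, _⟩ from ⟨hy, hX⟩)
    refine ⟨W, hyW, fun w hw => (hWO hw).1, hW, Or.inr (Opens.ext (Set.eq_empty_iff_forall_notMem.2 fun z hz => ?_))⟩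
    exact (hWO hz).2 ⟨z, rfl⟩

/-- Over a good open the wedge of the sequence is a basis of `L`. -/
theorem isBasis_omega {L : X.Modules}
    (φ : ∀ U : X.affineOpens, (L.val.obj (op U.1)) ≃ₗ[Γ(X, U.1)] ↥(⋀[Γ(X, U.1)]^r ((Omega.conormal ι).val.obj (op U.1))))
    (hφ : ∀ (U U' : X.affineOpens) (h : U'.1 ≤ U.1) (e : Fin r → (Omega.conormal ι).val.obj (op U.1)),
      L.val.map (homOfLE h).op ((φ U).symm (exteriorPower.ιMulti _ r e)) =
        (φ U').symm (exteriorPower.ιMulti _ r (fun j => (Omega.conormal ι).val.map (homOfLE h).op (e j))))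
    {V : P.Opens} (g : Good ι r V) :
    LocBasis.IsBasis (O := X.sheaf) L (U := ι ⁻¹ᵁ V) (fun _ : Fin 1 => omega ι φ g.aff g.f) := by
  refine LocBasis.isBasis_of_isStalkBasis fun x hx => ?_
  have hsub : ∀ (W : X.Opens), x ∈ W → ∃ (V' : P.Opens) (h : V' ≤ V), IsAffineOpen V' ∧ x ∈ ι ⁻¹ᵁ V' ∧ ι ⁻¹ᵁ V' ≤ W := by
    intro W hW
    obtain ⟨W₀, hW₀, hW₀eq⟩ := ι.isClosedEmbedding.isInducing.isOpen_iff.1 W.2
    obtain ⟨V', hV', hxV', hle⟩ := exists_isAffineOpen_mem_and_subset (U := (⟨W₀, hW₀⟩ : P.Opens) ⊓ V)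
      (show ι x ∈ (⟨W₀, hW₀⟩ : P.Opens) ⊓ V from ⟨(hW₀eq.symm.le hW : x ∈ ι ⁻¹' W₀), hx⟩)
    exact ⟨V', fun w hw => (hle hw).2, hV', hxV', fun z hz => hW₀eq.le (hle hz).1⟩
  have hbij : ∀ (V' : P.Opens) (hV' : IsAffineOpen V') (h : V' ≤ V), Function.Bijective fun c : Γ(X, ι ⁻¹ᵁ V') =>
      c • L.presheaf.map (homOfLE (ι.preimage_mono h)).op (omega ι φ g.aff g.f) := by
    intro V' hV' h
    rw [show L.presheaf.map (homOfLE (ι.preimage_mono h)).op (omega ι φ g.aff g.f) = _ from omega_res ι φ hφ g.aff hV' h g.f]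
    exact bijective_omega ι φ hV' _ (g.res hV' h).reg (g.res hV' h).span
  have hgerm : ∀ (V' : P.Opens) (h : V' ≤ V) (hxV' : x ∈ ι ⁻¹ᵁ V') (c : Γ(X, ι ⁻¹ᵁ V')),
      L.presheaf.germ (ι ⁻¹ᵁ V') x hxV' (show Γ(L, ι ⁻¹ᵁ V') from
          c • L.presheaf.map (homOfLE (ι.preimage_mono h)).op (omega ι φ g.aff g.f)) =
        X.presheaf.germ (ι ⁻¹ᵁ V') x hxV' c • L.presheaf.germ (ι ⁻¹ᵁ V) x hx (omega ι φ g.aff g.f) := by
    intro V' h hxV' c
    refine (QCohLib.germ_smul _ x hxV' c _).trans ?_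
    exact congrArg (_ • ·) (TopCat.Presheaf.germ_res_apply L.presheaf (homOfLE (ι.preimage_mono h)) x hxV' _)
  constructor
  · intro a b hab
    suffices h0 : ∀ a : Fin 1 → X.presheaf.stalk x,
        a 0 • L.presheaf.germ (ι ⁻¹ᵁ V) x hx (omega ι φ g.aff g.f) = 0 → a 0 = 0 by
      funext i
      obtain rfl := Fin.fin_one_eq_zero i
      rw [← sub_eq_zero]
      refine h0 (a - b) ?_
      simp only [Fintype.linearCombination_apply, Fin.sum_univ_one] at hab
      rw [Pi.sub_apply, sub_smul, sub_eq_zero]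
      exact hab
    intro a ha
    obtain ⟨W, hxW, c, hc⟩ := X.presheaf.exists_germ_eq (a 0)
    obtain ⟨V', h, hV', hxV', hle⟩ := hsub W hxW
    have hc' : X.presheaf.germ (ι ⁻¹ᵁ V') x hxV' (X.presheaf.map (homOfLE hle).op c) = a 0 :=
      (TopCat.Presheaf.germ_res_apply X.presheaf (homOfLE hle) x hxV' c).trans hc
    rw [← hc', ← hgerm V' h hxV'] at ha
    obtain ⟨W', hxW', i₁, i₂, heq⟩ := L.presheaf.germ_eq x hxV' hxV' _ 0 (ha.trans (map_zero _).symm)
    obtain ⟨V'', h'', hV'', hxV'', hle'⟩ := hsub W' hxW'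
    have hV2 : ι ⁻¹ᵁ V'' ≤ ι ⁻¹ᵁ V' := hle'.trans i₁.le
    have h1 := congrArg (fun q => L.presheaf.map (homOfLE hle').op q) heq
    simp only [map_zero] at h1
    rw [show i₁ = homOfLE i₁.le from rfl, QCohLib.map_map] at h1
    have h2 : (X.presheaf.map (homOfLE hV2).op (X.presheaf.map (homOfLE hle).op c)) •
        L.presheaf.map (homOfLE (ι.preimage_mono h'')).op (omega ι φ g.aff g.f) = 0 := by
      refine Eq.trans ?_ h1
      refine Eq.trans ?_ (Scheme.Modules.map_smul L (homOfLE hV2) _ _).symm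
      exact congrArg (_ • ·) (QCohLib.map_map L hV2 (ι.preimage_mono h) (omega ι φ g.aff g.f)).symm
    have h3 := (hbij V'' hV'' h'').1 (a₂ := 0) (h2.trans (zero_smul _ _).symm)
    rw [← hc', ← TopCat.Presheaf.germ_res_apply X.presheaf (homOfLE hV2) x hxV'' _, h3, map_zero]
  · intro s
    obtain ⟨W, hxW, t, rfl⟩ := L.presheaf.exists_germ_eq (x := x) s
    obtain ⟨V', h, hV', hxV', hle⟩ := hsub W hxW
    obtain ⟨c, hc⟩ := (hbij V' hV' h).2 (L.presheaf.map (homOfLE hle).op t)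
    refine ⟨fun _ => X.presheaf.germ (ι ⁻¹ᵁ V') x hxV' c, ?_⟩
    simp only [Fintype.linearCombination_apply, Fin.sum_univ_one]
    refine (hgerm V' h hxV' c).symm.trans ?_
    refine (congrArg (fun q => L.presheaf.germ (ι ⁻¹ᵁ V') x hxV' q) hc).trans ?_
    exact TopCat.Presheaf.germ_res_apply L.presheaf (homOfLE hle) x hxV' t

end Groth.Agent.FundLocal
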