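import Groth.Agent.CohVanish.Affine
import Groth.Agent.HigherDirect.InjMod
import Groth.Agent.QCohLib.Basic
import Groth.Prelude.Def_Omega4
import Mathlib.CategoryTheory.Preadditive.Injective.Resolution

/-!
# An injective resolution of a quasi-coherent module is exact on sections over affine opens
-/

set_option autoImplicit false
set_option linter.style.haveILetI false
set_option backward.isDefEq.respectTransparency false

universe u

open CategoryTheory CategoryTheory.Limits Opposite AlgebraicGeometry TopologicalSpace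
open scoped Groth.Agent.CohVanish

namespace Groth.Agent.FundLocal

open Groth.Agent.CohVanish

variable {P : Scheme.{u}} {F : P.Modules} (I : InjectiveResolution F)

/-- The cocycles in degree `n`. -/
noncomputable abbrev cyc (n : ℕ) : P.Modules := kernel (I.cocomplex.d n (n + 1))

/-- The differential onto the next cocycles. -/
noncomputable abbrev toCyc (n : ℕ) : I.cocomplex.X n ⟶ cyc I (n + 1) :=
  kernel.lift _ (I.cocomplex.d n (n + 1)) (I.cocomplex.d_comp_d n (n + 1) (n + 1 + 1))

/-- The short complex `Z n → I n → Z (n + 1)`. -/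
noncomputable abbrev cycSES (n : ℕ) : ShortComplex P.Modules :=
  ShortComplex.mk (kernel.ι (I.cocomplex.d n (n + 1))) (toCyc I n)
    (by rw [← cancel_mono (kernel.ι (I.cocomplex.d (n + 1) (n + 1 + 1))), Category.assoc, kernel.lift_ι,
      zero_comp, kernel.condition])

lemma cycSES_shortExact (n : ℕ) : (cycSES I n).ShortExact where
  exact := by
    let φ : cycSES I n ⟶ ShortComplex.mk (kernel.ι (I.cocomplex.d n (n + 1))) (I.cocomplex.d n (n + 1)) (kernel.condition _) :=
      { τ₁ := 𝟙 _, τ₂ := 𝟙 _, τ₃ := kernel.ι _ }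
    refine (ShortComplex.exact_iff_of_epi_of_isIso_of_mono φ).2 ?_
    exact ShortComplex.exact_of_f_is_kernel _ (kernelIsKernel _)
  mono_f := inferInstanceAs (Mono (kernel.ι _))
  epi_g := (ShortComplex.exact_iff_epi_kernel_lift _).1 (I.exact_succ n)

theorem subsingleton_EU_cyc [F.IsQuasicoherent] {V : P.Opens} (hV : IsAffineOpen V) :
    ∀ (n m : ℕ), Subsingleton (EU (X := sp P) (Coh.toAb (cyc I n)) V (m + 1))
  | 0, m => by
    let e : F ≅ cyc I 0 := IsLimit.conePointUniqueUpToIso I.isLimitKernelFork (limit.isLimit _)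
    haveI := subsingleton_EU_of_isAffineOpen F hV m
    refine Function.Surjective.subsingleton (f := eMap ((toAbF P).map e.hom) V (m + 1)) fun x =>
      ⟨eMap ((toAbF P).map e.inv) V (m + 1) x, ?_⟩
    rw [← eMap_comp, ← Functor.map_comp, e.inv_hom_id, CategoryTheory.Functor.map_id, eMap_id]
  | n + 1, m => by
    haveI : Subsingleton (EU (X := sp P) (Coh.toAb (cyc I n)) V (m + 1 + 1)) := subsingleton_EU_cyc hV n (m + 1)
    haveI : TopCat.Sheaf.IsFlasque (Coh.toAb (I.cocomplex.X n)) :=
      HigherDirect.isFlasque_toAb_of_injective (I.cocomplex.X n)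
    haveI : Subsingleton (EU (X := sp P) ((cycSES I n).map (toAbF P)).X₂ V (m + 1)) :=
      subsingleton_of_flasque (X := sp P) (Coh.toAb (I.cocomplex.X n)) V m
    haveI : Subsingleton (EU (X := sp P) ((cycSES I n).map (toAbF P)).X₁ V (m + 1 + 1)) :=
      subsingleton_EU_cyc hV n (m + 1)
    exact (eDelta_injective (X := sp P) (shortExact_toAb (cycSES_shortExact I n)) V (m + 1)).subsingleton

/-- **Exactness on sections over affine opens.** -/
theorem exists_preimage [F.IsQuasicoherent] {V : P.Opens} (hV : IsAffineOpen V) (n : ℕ)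
    (y : Γ(I.cocomplex.X (n + 1), V)) (hy : (I.cocomplex.d (n + 1) (n + 2)).app V y = 0) :
    ∃ x, (I.cocomplex.d n (n + 1)).app V x = y := by
  obtain ⟨z, hz⟩ : ∃ z : Γ(cyc I (n + 1), V), (kernel.ι (I.cocomplex.d (n + 1) (n + 1 + 1))).app V z = y :=
    ⟨OmegaSh.kerLift _ V y hy, OmegaSh.ι_kerLift _ V y hy⟩
  haveI : Subsingleton (EU (X := sp P) ((cycSES I n).map (toAbF P)).X₁ V 1) := subsingleton_EU_cyc I hV n 0
  obtain ⟨x, hx⟩ := surjective_app_of_subsingleton (X := sp P) (shortExact_toAb (cycSES_shortExact I n)) V z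
  refine ⟨x, ?_⟩
  rw [← hz, ← show (toCyc I n).app V x = z from hx, ← CategoryTheory.comp_apply, ← Scheme.Modules.Hom.comp_app,
    kernel.lift_ι]

end Groth.Agent.FundLocal
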