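import Groth.Agent.CohDual.StalkHom
import Groth.Prelude.Def_Omega3
import Mathlib.AlgebraicGeometry.Morphisms.ClosedImmersion

/-!
# `Hom(ι_* O_X, G)` is the subsheaf of `G` killed by the ideal of `X`
-/

set_option autoImplicit false
set_option linter.style.haveILetI false

universe u

open CategoryTheory CategoryTheory.Limits Opposite AlgebraicGeometry TopologicalSpace MonoidalCategory
open scoped TensorProduct

namespace Groth.Agent.ModGroth.LocBasis

variable {C : Type u} [SmallCategory C] {J : GrothendieckTopology C} {O : Sheaf J CommRingCat.{u}}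
  (F G : ModSite.Mod O) [ModSite.HasSheafHom F] {U : C}

lemma evSec_add (s s' : ((fg O).obj ((ModSite.sheafHom F).obj G)).obj (op U)) (x : ((fg O).obj F).obj (op U)) :
    evSec F G (s + s') x = evSec F G s x + evSec F G s' x :=
  (congrArg ((beta F G).app (op U)) (TensorProduct.add_tmul s s' x)).trans (map_add _ _ _)

lemma evSec_smul (a : O.obj.obj (op U)) (s : ((fg O).obj ((ModSite.sheafHom F).obj G)).obj (op U))
    (x : ((fg O).obj F).obj (op U)) : evSec F G (a • s) x = a • evSec F G s x :=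
  (congrArg ((beta F G).app (op U)) (LinearMap.map_smul₂ (TensorProduct.mk (O.obj.obj (op U))
    (((fg O).obj ((ModSite.sheafHom F).obj G)).obj (op U)) (((fg O).obj F).obj (op U))) a s x)).trans (map_smul _ _ _)

lemma evSec_smul' (a : O.obj.obj (op U)) (s : ((fg O).obj ((ModSite.sheafHom F).obj G)).obj (op U))
    (x : ((fg O).obj F).obj (op U)) : evSec F G s (a • x) = a • evSec F G s x :=
  (congrArg ((beta F G).app (op U)) (LinearMap.map_smul (TensorProduct.mk (O.obj.obj (op U))
    (((fg O).obj ((ModSite.sheafHom F).obj G)).obj (op U)) (((fg O).obj F).obj (op U)) s) a x)).trans (map_smul _ _ _)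

lemma evSec_zero' (s : ((fg O).obj ((ModSite.sheafHom F).obj G)).obj (op U)) : evSec F G s 0 = 0 :=
  (congrArg ((beta F G).app (op U)) (TensorProduct.tmul_zero _ s)).trans (map_zero _)

lemma evSec_add' (s : ((fg O).obj ((ModSite.sheafHom F).obj G)).obj (op U)) (x y : ((fg O).obj F).obj (op U)) :
    evSec F G s (x + y) = evSec F G s x + evSec F G s y :=
  (congrArg ((beta F G).app (op U)) (TensorProduct.tmul_add s x y)).trans (map_add _ _ _)

end Groth.Agent.ModGroth.LocBasis

namespace Groth.Agent.FundLocal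

open Groth.Agent.ModGroth LocBasis

variable {P X : Scheme.{u}} (ι : X ⟶ P) [IsClosedImmersion ι]

/-- `ι_* O_X`. -/
noncomputable abbrev oX : P.Modules := (Scheme.Modules.pushforward ι).obj (Coh.structureModule X)

/-- A function on `ι⁻¹ V` as a section of `ι_* O_X`. -/
noncomputable def oSect (V : P.Opens) : Γ(X, ι ⁻¹ᵁ V) →+ Γ(oX ι, V) := OmegaSh.strSect X (ι ⁻¹ᵁ V)

lemma oSect_smul {V : P.Opens} (a : Γ(P, V)) (b : Γ(X, ι ⁻¹ᵁ V)) :
    a • oSect ι V b = oSect ι V (ι.app V a * b) := rfl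

lemma oSect_surjective (V : P.Opens) (f : Γ(oX ι, V)) : ∃ b, oSect ι V b = f := ⟨f, rfl⟩

lemma oSect_res {V W : P.Opens} (h : W ≤ V) (b : Γ(X, ι ⁻¹ᵁ V)) :
    (oX ι).presheaf.map (homOfLE h).op (oSect ι V b) =
      oSect ι W (X.presheaf.map (homOfLE (ι.preimage_mono h)).op b) := rfl

/-- Local lifting of functions on `X` to functions on `P`. -/
theorem exists_lift (V : P.Opens) (b : Γ(X, ι ⁻¹ᵁ V)) (y : P) (hy : y ∈ V) :
    ∃ (W : P.Opens) (h : W ≤ V), y ∈ W ∧ ∃ a : Γ(P, W),
      ι.app W a = X.presheaf.map (homOfLE (ι.preimage_mono h)).op b := by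
  obtain ⟨W, hW, hyW, hWV⟩ := exists_isAffineOpen_mem_and_subset hy
  exact ⟨W, hWV, hyW, (isClosedImmersion_iff_isAffineHom.1 ‹IsClosedImmersion ι›).2 W hW _⟩

variable {ι} in
/-- The value of a linear map on `ι_* O_X` is determined by its value at `1`, locally. -/
lemma eq_one_smul {V : P.Opens} (a : Γ(P, V)) :
    oSect ι V (ι.app V a) = a • oSect ι V 1 := by
  rw [oSect_smul, mul_one]

/-- A section killed by all functions vanishing on `X`. -/
def Killed (G : P.Modules) (V : P.Opens) (s : Γ(G, V)) : Prop :=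
  ∀ (W : P.Opens) (h : W ≤ V) (a : Γ(P, W)), ι.app W a = 0 → a • G.presheaf.map (homOfLE h).op s = 0

variable {ι} in
lemma Killed.res {G : P.Modules} {V W : P.Opens} (h : W ≤ V) {s : Γ(G, V)} (hs : Killed ι G V s) :
    Killed ι G W (G.presheaf.map (homOfLE h).op s) := fun W' h' a ha => by
  rw [QCohLib.map_map]
  exact hs W' (h'.trans h) a ha

variable {ι} in
lemma Killed.smul_eq {G : P.Modules} {V : P.Opens} {s : Γ(G, V)} (hs : Killed ι G V s) (a : Γ(P, V))
    (ha : ι.app V a = 0) : a • s = 0 := by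
  have := hs V le_rfl a ha
  rwa [QCohLib.map_self] at this

lemma app_res {V W : P.Opens} (h : W ≤ V) (a : Γ(P, V)) :
    ι.app W (P.presheaf.map (homOfLE h).op a) = X.presheaf.map (homOfLE (ι.preimage_mono h)).op (ι.app V a) :=
  ConcreteCategory.congr_hom (ι.naturality (homOfLE h).op) a

lemma app_res_eq_zero {V W : P.Opens} (h : W ≤ V) (a : Γ(P, V)) (ha : ι.app V a = 0) :
    ι.app W (P.presheaf.map (homOfLE h).op a) = 0 := by
  rw [app_res, ha, map_zero]

/-- On an affine open it suffices to be killed by generators of the ideal. -/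
theorem killed_of_affine {G : P.Modules} {V : P.Opens} (hV : IsAffineOpen V) {s : Γ(G, V)}
    (hs : ∀ a : Γ(P, V), ι.app V a = 0 → a • s = 0) : Killed ι G V s := by
  intro W h a ha
  refine QCohLib.section_ext _ _ fun y hy => ?_
  obtain ⟨W', hW', hyW', hle⟩ := exists_isAffineOpen_mem_and_subset hy
  have hle' : W' ≤ W := hle
  rw [← TopCat.Presheaf.germ_res_apply G.presheaf (homOfLE hle') y hyW',
    ← TopCat.Presheaf.germ_res_apply G.presheaf (homOfLE hle') y hyW', Scheme.Modules.map_smul, map_zero,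
    QCohLib.map_map]
  refine congrArg _ ?_
  have hmap : (ι.ker.ideal ⟨V, hV⟩).map (P.presheaf.map (homOfLE (hle'.trans h)).op).hom =
      ι.ker.ideal ⟨W', hW'⟩ :=
    ι.ker.map_ideal (U := ⟨W', hW'⟩) (V := ⟨V, hV⟩) (hle'.trans h)
  have ha' : P.presheaf.map (homOfLE hle').op a ∈ ι.ker.ideal ⟨W', hW'⟩ := by
    rw [ι.ker_apply, RingHom.mem_ker]
    exact app_res_eq_zero ι hle' a ha
  rw [← hmap, Ideal.map] at ha'
  generalize P.presheaf.map (homOfLE hle').op a = a' at ha' ⊢
  induction ha' using Submodule.span_induction with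
  | mem x hx =>
    obtain ⟨b, hb, rfl⟩ := hx
    rw [← Scheme.Modules.map_smul, hs b (by simpa [ι.ker_apply] using hb), map_zero]
  | zero => exact zero_smul _ _
  | add x y _ _ hx hy => rw [add_smul, hx, hy, add_zero]
  | smul c x _ hx => rw [smul_assoc, hx, smul_zero]

variable [ModSite.HasSheafHom (O := P.sheaf) (oX ι)]

/-- `Hom(ι_* O_X, G)`. -/
noncomputable abbrev homX (G : P.Modules) : P.Modules := (ModSite.sheafHom (O := P.sheaf) (oX ι)).obj G

/-- Evaluation at `1`. -/
noncomputable def ev1 (G : P.Modules) (V : P.Opens) : Γ(homX ι G, V) →ₗ[Γ(P, V)] Γ(G, V) where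
  toFun t := evSec (O := P.sheaf) (oX ι) G t (oSect ι V 1)
  map_add' t t' := evSec_add (O := P.sheaf) (oX ι) G t t' _
  map_smul' a t := evSec_smul (O := P.sheaf) (oX ι) G a t _

lemma ev1_res (G : P.Modules) {V W : P.Opens} (h : W ≤ V) (t : Γ(homX ι G, V)) :
    ev1 ι G W ((homX ι G).presheaf.map (homOfLE h).op t) = G.presheaf.map (homOfLE h).op (ev1 ι G V t) := by
  refine Eq.trans ?_ (evSec_res (O := P.sheaf) (oX ι) G (homOfLE h) t (oSect ι V 1)).symm
  show evSec (O := P.sheaf) (oX ι) G _ (oSect ι W 1) =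
    evSec (O := P.sheaf) (oX ι) G _ ((oX ι).presheaf.map (homOfLE h).op (oSect ι V 1))
  rw [oSect_res, (X.presheaf.map _).hom.map_one]
  rfl

lemma ev1_map {G G' : P.Modules} (g : G ⟶ G') (V : P.Opens) (t : Γ(homX ι G, V)) :
    ev1 ι G' V (Scheme.Modules.Hom.app
      (show homX ι G ⟶ homX ι G' from (ModSite.sheafHom (O := P.sheaf) (oX ι)).map g) V t) =
      g.app V (ev1 ι G V t) :=
  evSec_map (O := P.sheaf) (oX ι) G g t (oSect ι V 1)

lemma evSec_smul_right (G : P.Modules) (V : P.Opens) (t : Γ(homX ι G, V)) (a : Γ(P, V)) (f : Γ(oX ι, V)) :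
    evSec (O := P.sheaf) (oX ι) G t (a • f) = (a • evSec (O := P.sheaf) (oX ι) G t f : Γ(G, V)) :=
  evSec_smul' (O := P.sheaf) (oX ι) G a t f

lemma killed_ev1 (G : P.Modules) (V : P.Opens) (t : Γ(homX ι G, V)) : Killed ι G V (ev1 ι G V t) := by
  intro W h a ha
  rw [← ev1_res]
  refine (evSec_smul_right ι G W _ a _).symm.trans ?_
  rw [← eq_one_smul, ha, map_zero]
  exact evSec_zero' (O := P.sheaf) (oX ι) G _

theorem ev1_injective (G : P.Modules) (V : P.Opens) : Function.Injective (ev1 ι G V) := by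
  rw [injective_iff_map_eq_zero]
  intro t ht
  refine CohDual.StalkHom.eq_zero_of_evSec (oX ι) G t fun W k f => ?_
  obtain ⟨b, rfl⟩ := oSect_surjective ι W f
  refine QCohLib.section_ext (M := G) _ _ fun y hy => ?_
  obtain ⟨W', hW', hyW', a, ha⟩ := exists_lift ι W b y hy
  rw [← TopCat.Presheaf.germ_res_apply G.presheaf (homOfLE hW') y hyW',
    ← TopCat.Presheaf.germ_res_apply G.presheaf (homOfLE hW') y hyW']
  refine congrArg (fun z => (G.presheaf.germ W' y hyW').hom z) ?_
  refine Eq.trans ?_ (map_zero (G.presheaf.map (homOfLE hW').op).hom).symm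
  refine (evSec_res (O := P.sheaf) (oX ι) G (homOfLE hW') _ _).trans ?_
  show evSec (O := P.sheaf) (oX ι) G ((homX ι G).presheaf.map (homOfLE hW').op
      ((homX ι G).presheaf.map k.op t)) ((oX ι).presheaf.map (homOfLE hW').op (oSect ι W b)) = 0
  rw [oSect_res, ← ha, eq_one_smul, show k = homOfLE k.le from rfl, QCohLib.map_map]
  refine (evSec_smul_right ι G W' _ a _).trans ?_
  show a • ev1 ι G W' _ = 0
  rw [ev1_res, ht, map_zero, smul_zero]

/-- The extension of a killed section to a functional on `ι_* O_X`. -/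
def Extends {G : P.Modules} {V : P.Opens} (s : Γ(G, V)) {W : P.Opens} (h : W ≤ V) (f : Γ(oX ι, W))
    (g : Γ(G, W)) : Prop :=
  ∀ (W' : P.Opens) (h' : W' ≤ W) (a : Γ(P, W')), oSect ι W' (ι.app W' a) = (oX ι).presheaf.map (homOfLE h').op f →
    G.presheaf.map (homOfLE h').op g = a • G.presheaf.map (homOfLE (h'.trans h)).op s

omit [ModSite.HasSheafHom (O := P.sheaf) (oX ι)] in
theorem existsUnique_extends {G : P.Modules} {V : P.Opens} {s : Γ(G, V)} (hs : Killed ι G V s) {W : P.Opens}
    (h : W ≤ V) (f : Γ(oX ι, W)) : ∃! g, Extends ι s h f g := by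
  obtain ⟨b, rfl⟩ := oSect_surjective ι W f
  choose Wy hWy hmem a ha using fun y : W => exists_lift ι W b y.1 y.2
  have hval : ∀ (y : W) (W' : P.Opens) (h1 : W' ≤ Wy y) (c : Γ(P, W')),
      oSect ι W' (ι.app W' c) = (oX ι).presheaf.map (homOfLE (h1.trans (hWy y))).op (oSect ι W b) →
      c • G.presheaf.map (homOfLE ((h1.trans (hWy y)).trans h)).op s =
        P.presheaf.map (homOfLE h1).op (a y) • G.presheaf.map (homOfLE ((h1.trans (hWy y)).trans h)).op s := by
    intro y W' h1 c hc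
    rw [← sub_eq_zero, ← sub_smul]
    refine hs W' _ _ ?_
    rw [map_sub, sub_eq_zero]
    rw [oSect_res] at hc
    rw [app_res, ha y]
    refine (show ι.app W' c = _ from hc).trans ?_
    exact (QCohLib.ring_map_map (ι.preimage_mono h1) (ι.preimage_mono (hWy y)) b).symm
  let sh : TopCat.Sheaf AddCommGrpCat.{u} P := ⟨G.presheaf, G.isSheaf⟩
  have hcov : W ≤ iSup Wy := fun z hz => Opens.mem_iSup.2 ⟨⟨z, hz⟩, hmem ⟨z, hz⟩⟩
  let sec : ∀ y : W, Γ(G, Wy y) := fun y => a y • G.presheaf.map (homOfLE ((hWy y).trans h)).op s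
  obtain ⟨g, hg, -⟩ := sh.existsUnique_gluing' Wy W (fun y => homOfLE (hWy y)) hcov sec fun y z => by
    show G.presheaf.map (homOfLE inf_le_left).op (a y • _) = G.presheaf.map (homOfLE inf_le_right).op (a z • _)
    rw [Scheme.Modules.map_smul, Scheme.Modules.map_smul, QCohLib.map_map, QCohLib.map_map]
    exact (hval z (Wy y ⊓ Wy z) inf_le_right _ (by
      rw [oSect_res, app_res, ha y]
      exact congrArg (oSect ι _) (QCohLib.ring_map_map (ι.preimage_mono inf_le_left) (ι.preimage_mono (hWy y)) b)))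
  have hext : Extends ι s h (oSect ι W b) g := fun W' h' c hc => by
    refine QCohLib.section_ext _ _ fun z hz => ?_
    let y : W := ⟨z, h' hz⟩
    have hz' : z ∈ W' ⊓ Wy y := ⟨hz, hmem y⟩
    rw [← TopCat.Presheaf.germ_res_apply G.presheaf (homOfLE inf_le_left) z hz',
      ← TopCat.Presheaf.germ_res_apply G.presheaf (homOfLE inf_le_left) z hz',
      QCohLib.map_map, Scheme.Modules.map_smul, QCohLib.map_map]
    refine congrArg (fun q => (G.presheaf.germ (W' ⊓ Wy y) z hz').hom q) ?_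
    have h1 := congrArg (fun q => G.presheaf.map (homOfLE (inf_le_right : W' ⊓ Wy y ≤ Wy y)).op q) (hg y)
    refine Eq.trans ?_ ((hval y (W' ⊓ Wy y) inf_le_right (P.presheaf.map (homOfLE inf_le_left).op c) ?_).symm)
    · refine Eq.trans ?_ ((show _ = G.presheaf.map _ (sec y) from h1).trans ?_)
      · exact (QCohLib.map_map G inf_le_right (hWy y) g).symm
      · rw [Scheme.Modules.map_smul, QCohLib.map_map]
    · rw [app_res, ← oSect_res ι inf_le_left, hc]
      exact QCohLib.map_map (oX ι) inf_le_left h' _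
  refine ⟨g, hext, fun g' hg' => ?_⟩
  refine QCohLib.section_ext _ _ fun z hz => ?_
  have hc : oSect ι (Wy ⟨z, hz⟩) (ι.app _ (a ⟨z, hz⟩)) =
      (oX ι).presheaf.map (homOfLE (hWy ⟨z, hz⟩)).op (oSect ι W b) := by rw [oSect_res, ha]
  rw [← TopCat.Presheaf.germ_res_apply G.presheaf (homOfLE (hWy ⟨z, hz⟩)) z (hmem ⟨z, hz⟩),
    ← TopCat.Presheaf.germ_res_apply G.presheaf (homOfLE (hWy ⟨z, hz⟩)) z (hmem ⟨z, hz⟩),
    hg' _ _ _ hc, hext _ _ _ hc]

/-- **Killed sections are the sections of `Hom(ι_* O_X, G)`.** -/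
theorem exists_ev1 (G : P.Modules) (V : P.Opens) (s : Γ(G, V)) (hs : Killed ι G V s) :
    ∃ t, ev1 ι G V t = s := by
  have hu := fun (W : P.Opens) (k : W ⟶ V) (f : Γ(oX ι, W)) => existsUnique_extends ι hs k.le f
  choose val hval huniq using hu
  have hadd : ∀ W k f f', val W k (f + f') = val W k f + val W k f' := fun W k f f' =>
    (huniq W k _ _ fun W' h' c hc => by
      refine QCohLib.section_ext _ _ fun z hz => ?_
      rw [map_add] at hc
      obtain ⟨b, hb⟩ := oSect_surjective ι W f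
      subst hb
      obtain ⟨U₁, h₁, hz₁, a₁, ha₁⟩ := exists_lift ι W' (X.presheaf.map (homOfLE (ι.preimage_mono h')).op b) z hz
      have e1 : oSect ι U₁ (ι.app U₁ a₁) = (oX ι).presheaf.map (homOfLE (h₁.trans h')).op (oSect ι W b) := by
        rw [oSect_res, ha₁, QCohLib.ring_map_map]
      have e2 : oSect ι U₁ (ι.app U₁ (P.presheaf.map (homOfLE h₁).op c - a₁)) =
          (oX ι).presheaf.map (homOfLE (h₁.trans h')).op f' := by
        rw [map_sub, map_sub, e1, app_res,
          ← oSect_res ι h₁, hc, map_add, QCohLib.map_map, QCohLib.map_map, add_sub_cancel_left]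
      rw [← TopCat.Presheaf.germ_res_apply G.presheaf (homOfLE h₁) z hz₁,
        ← TopCat.Presheaf.germ_res_apply G.presheaf (homOfLE h₁) z hz₁]
      refine congrArg (fun q => (G.presheaf.germ U₁ z hz₁).hom q) ?_
      rw [QCohLib.map_map, map_add, hval W k _ U₁ (h₁.trans h') a₁ e1, hval W k f' U₁ (h₁.trans h') _ e2,
        Scheme.Modules.map_smul, QCohLib.map_map, sub_smul, add_sub_cancel]).symm
  have hsmul : ∀ W k (r : Γ(P, W)) f, val W k (r • f) = r • val W k f := fun W k r f =>
    (huniq W k _ _ fun W' h' c hc => by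
      refine QCohLib.section_ext _ _ fun z hz => ?_
      obtain ⟨b, hb⟩ := oSect_surjective ι W f
      subst hb
      obtain ⟨U₁, h₁, hz₁, a₁, ha₁⟩ := exists_lift ι W' (X.presheaf.map (homOfLE (ι.preimage_mono h')).op b) z hz
      have e1 : oSect ι U₁ (ι.app U₁ a₁) = (oX ι).presheaf.map (homOfLE (h₁.trans h')).op (oSect ι W b) := by
        rw [oSect_res, ha₁, QCohLib.ring_map_map]
      have e2 : ι.app U₁ (P.presheaf.map (homOfLE h₁).op c - P.presheaf.map (homOfLE (h₁.trans h')).op r * a₁) = 0 := by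
        have hc' := congrArg (fun q => (oX ι).presheaf.map (homOfLE h₁).op q) hc
        rw [map_sub, map_mul, sub_eq_zero]
        rw [oSect_res, QCohLib.map_map, Scheme.Modules.map_smul, ← e1, oSect_smul] at hc'
        rw [app_res]
        exact hc'
      rw [← TopCat.Presheaf.germ_res_apply G.presheaf (homOfLE h₁) z hz₁,
        ← TopCat.Presheaf.germ_res_apply G.presheaf (homOfLE h₁) z hz₁]
      refine congrArg (fun q => (G.presheaf.germ U₁ z hz₁).hom q) ?_
      rw [QCohLib.map_map, Scheme.Modules.map_smul, hval W k _ U₁ (h₁.trans h') a₁ e1, Scheme.Modules.map_smul,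
        QCohLib.map_map, smul_smul]
      refine (sub_eq_zero.1 ?_).symm
      rw [← sub_smul]
      exact hs U₁ _ _ e2).symm
  have hnat : ∀ (W W' : P.Opens) (l : W' ⟶ W) (k : W ⟶ V) (f : Γ(oX ι, W)),
      G.presheaf.map l.op (val W k f) = val W' (l ≫ k) ((oX ι).presheaf.map l.op f) := fun W W' l k f =>
    huniq W' (l ≫ k) _ _ fun W'' h' c hc => by
      rw [show l = homOfLE l.le from rfl, QCohLib.map_map] at hc ⊢
      exact hval W k f W'' (h'.trans l.le) c hc
  let ψ : ∀ W : P.Opens, (W ⟶ V) → (Γ(oX ι, W) →ₗ[Γ(P, W)] Γ(G, W)) := fun W k =>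
    { toFun := val W k, map_add' := hadd W k, map_smul' := hsmul W k }
  obtain ⟨t, ht⟩ := CohDual.StalkHom.exists_section (oX ι) G ψ hnat
  refine ⟨t, (ht _).trans ?_⟩
  have h1 := hval V (𝟙 V) (oSect ι V 1) V le_rfl 1 (by rw [QCohLib.map_self, map_one])
  rwa [one_smul, QCohLib.map_self, QCohLib.map_self] at h1

end Groth.Agent.FundLocal
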