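import Mathlib
import Groth.Agent.RegSeq.Noeth
import Groth.Agent.RegSeq.NoethImm
import Groth.Agent.DepthLib.CMModule
import Groth.Agent.NegVanish.Depth
import Groth.Prelude.Def_RegImm

/-!
# Immersions cut out by as many equations as the codimension are regular
-/

set_option autoImplicit false
set_option linter.style.haveILetI false

universe u

open CategoryTheory Opposite AlgebraicGeometry TopologicalSpace RingTheory.Sequence

namespace Groth.Agent.FundLocal

/-- Dimension of a quotient plus a lower bound for the height of the ideal. -/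
theorem ringKrullDim_quotient_add_le {R : Type u} [CommRing R] [IsLocalRing R] [IsNoetherianRing R] (J : Ideal R)
    (hJ : J ≠ ⊤) (r : ℕ) (h : ∀ q : PrimeSpectrum R, J ≤ q.asIdeal → (r : ℕ∞) ≤ q.asIdeal.height) :
    ringKrullDim (R ⧸ J) + (r : WithBot ℕ∞) ≤ ringKrullDim R := by
  rw [ringKrullDim_quotient]
  have hne : Nonempty (PrimeSpectrum.zeroLocus (R := R) J) :=
    ⟨⟨⟨IsLocalRing.maximalIdeal R, inferInstance⟩, IsLocalRing.le_maximalIdeal hJ⟩⟩
  have key : ∀ l : LTSeries (PrimeSpectrum.zeroLocus (R := R) J), ((l.length + r : ℕ) : WithBot ℕ∞) ≤ ringKrullDim R := by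
    intro l
    have hh : (r : ℕ∞) ≤ Order.height (l.head : PrimeSpectrum R) := by
      rw [← PrimeSpectrum.height_eq_orderHeight]
      exact h _ l.head.2
    obtain ⟨p, hp, hpl⟩ := Order.exists_series_of_le_height _ hh
    refine Order.le_krullDim_iff.2 ⟨p.smash (l.map Subtype.val (fun _ _ hab => hab)) (by
      rw [hp, LTSeries.head_map]), ?_⟩
    rw [RelSeries.smash_length, LTSeries.map_length, hpl, add_comm]
  rw [Order.krullDim_eq_iSup_length, ← WithBot.coe_natCast, ← WithBot.coe_add, ENat.iSup_add]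
  obtain ⟨d, hd⟩ : ∃ d : ℕ∞, ringKrullDim R = d := ⟨_, (WithBot.coe_unbot (ringKrullDim R) ringKrullDim_ne_bot).symm⟩
  rw [hd, WithBot.coe_le_coe]
  refine iSup_le fun l => ?_
  have h1 := key l
  rw [hd, ← WithBot.coe_natCast, WithBot.coe_le_coe, Nat.cast_add] at h1
  exact h1

variable {P X : Scheme.{u}} [IsLocallyNoetherian P] (ι : X ⟶ P) [IsClosedImmersion ι]

/-- As many equations as the codimension form a regular sequence near the point. -/
theorem isRegularImmersionOfCodim_of_height (r : ℕ) (hreg : ∀ y : P, IsRegularLocalRing (P.presheaf.stalk y))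
    (hht : ∀ z : X, (r : WithBot ℕ∞) ≤ ringKrullDim (P.presheaf.stalk (ι z)))
    (hgen : ∀ x : X, ∃ U : P.affineOpens, ι x ∈ U.1 ∧
      ∃ f : Fin r → Γ(P, U.1), ι.ker.ideal U = Ideal.span (Set.range f)) :
    RegImm.IsRegularImmersionOfCodim RegImm.Kind.regular r ι := by
  refine ⟨inferInstance, fun x => ?_⟩
  obtain ⟨U, hxU, f, hf⟩ := hgen x
  haveI : IsNoetherianRing Γ(P, U.1) := IsLocallyNoetherian.component_noetherian U
  let p := (U.2.primeIdealOf ⟨ι x, hxU⟩).asIdeal
  haveI : p.IsPrime := (U.2.primeIdealOf ⟨ι x, hxU⟩).isPrime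
  let R := P.presheaf.stalk (ι x)
  letI : Algebra Γ(P, U.1) R := (P.presheaf.germ U.1 (ι x) hxU).hom.toAlgebra
  haveI : IsLocalization.AtPrime R p := U.2.isLocalization_stalk ⟨ι x, hxU⟩
  haveI : IsRegularLocalRing R := hreg _
  haveI := DepthLib.isCohenMacaulayLocalRing_of_isRegularLocalRing R
  have hsupp : ∀ y : P, y ∈ U.1 → ((∀ a ∈ ι.ker.ideal U, y ∉ P.basicOpen a) ↔ y ∈ Set.range ι) := fun y hy => by
    rw [← ι.isClosedEmbedding.isClosed_range.closure_eq, ← ι.support_ker]
    exact (Scheme.mem_zeroLocus_iff _ _ _).symm.trans (Scheme.IdealSheafData.mem_support_iff_of_mem hy).symm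
  have hp : ∀ a ∈ ι.ker.ideal U, a ∈ p := fun a ha => by
    by_contra hc
    refine (hsupp _ hxU).2 ⟨x, rfl⟩ a ha ?_
    rw [Scheme.mem_basicOpen (hx := hxU)]
    exact (IsLocalization.AtPrime.isUnit_to_map_iff R p a).2 hc
  let rs := List.ofFn f
  have hrs : Ideal.ofList rs = ι.ker.ideal U := by
    rw [hf, Ideal.ofList]
    exact congrArg Ideal.span (Set.ext fun a => List.mem_ofFn)
  let rs' := rs.map (algebraMap Γ(P, U.1) R)
  have hJ : Ideal.ofList rs' = (ι.ker.ideal U).map (algebraMap Γ(P, U.1) R) := by rw [← hrs, Ideal.map_ofList]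
  have hmax : ∀ a ∈ rs', a ∈ IsLocalRing.maximalIdeal R := by
    intro a ha
    obtain ⟨b, hb, rfl⟩ := List.mem_map.1 ha
    exact (IsLocalization.AtPrime.to_map_mem_maximal_iff R p b).2 (hp b (hrs ▸ Ideal.subset_span hb))
  have hdim : ∀ q : PrimeSpectrum R, Ideal.ofList rs' ≤ q.asIdeal → (r : ℕ∞) ≤ q.asIdeal.height := by
    intro q hq
    let Q : PrimeSpectrum Γ(P, U.1) := ⟨q.asIdeal.under Γ(P, U.1), inferInstance⟩
    let y : P := U.2.fromSpec Q
    have hyU : y ∈ U.1 := U.2.range_fromSpec.subset ⟨Q, rfl⟩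
    have hQ : U.2.primeIdealOf ⟨y, hyU⟩ = Q :=
      U.2.fromSpec.isOpenEmbedding.injective (U.2.fromSpec_primeIdealOf ⟨y, hyU⟩)
    letI : Algebra Γ(P, U.1) (P.presheaf.stalk y) := (P.presheaf.germ U.1 y hyU).hom.toAlgebra
    haveI : IsLocalization.AtPrime (P.presheaf.stalk y) Q.asIdeal := by
      have := U.2.isLocalization_stalk ⟨y, hyU⟩
      rwa [hQ] at this
    obtain ⟨z, hz⟩ := (hsupp y hyU).1 fun a ha hc => by
      rw [Scheme.mem_basicOpen (hx := hyU)] at hc
      refine (IsLocalization.AtPrime.isUnit_to_map_iff (P.presheaf.stalk y) Q.asIdeal a).1 hc ?_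
      exact hq (hJ ▸ Ideal.mem_map_of_mem _ ha)
    have h1 := hht z
    rw [hz, IsLocalization.AtPrime.ringKrullDim_eq_height Q.asIdeal (P.presheaf.stalk y),
      IsLocalization.height_under p.primeCompl] at h1
    exact WithBot.coe_le_coe.1 h1
  have hwr : IsWeaklyRegular R rs' := by
    refine DepthLib.isWeaklyRegular_of_supportDim_drop rs' R ?_ hmax ?_
    · exact DepthLib.isCohenMacaulayModule_self
    · rw [smul_eq_mul, Ideal.mul_top, Module.supportDim_self_eq_ringKrullDim, Module.supportDim_quotient_eq_ringKrullDim,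
        List.length_map, List.length_ofFn]
      exact ringKrullDim_quotient_add_le _ (fun htop => IsLocalRing.maximalIdeal.isMaximal R |>.ne_top
        (top_le_iff.1 (htop ▸ Ideal.span_le.2 hmax))) r hdim
  obtain ⟨g, hg, hT⟩ := Vasconcelos.regOn_spread p rs ((RegSeq.regOn_self_iff _ _).2 (by
    let e := IsLocalization.algEquiv p.primeCompl R (Localization p.primeCompl)
    exact (e.toRingEquiv.toAddEquiv.isWeaklyRegular_congr (as := rs')
      (bs := rs.map (algebraMap Γ(P, U.1) (Localization p.primeCompl)))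
      (List.forall₂_map_left_iff.2 (List.forall₂_map_right_iff.2 (List.forall₂_same.2 fun a _ b => by
        show e (_ * b) = _ * e b
        rw [map_mul, AlgEquiv.commutes])))).1 hwr))
  have hxg : ι x ∈ P.basicOpen g := by
    rw [Scheme.mem_basicOpen (hx := hxU)]
    exact (IsLocalization.AtPrime.isUnit_to_map_iff R p g).2 hg
  let W := P.affineBasicOpen g
  letI : Algebra Γ(P, U.1) Γ(P, W.1) := (P.presheaf.map (homOfLE (P.basicOpen_le g)).op).hom.toAlgebra
  haveI : IsLocalization.Away g Γ(P, W.1) := U.2.isLocalization_basicOpen g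
  have hW := (RegSeq.regOn_self_iff (Submonoid.powers g) rs).1
    (hT _ ⟨1, by rw [one_mul]; exact Submonoid.mem_powers g⟩)
  let e := IsLocalization.algEquiv (Submonoid.powers g) (Localization (Submonoid.powers g)) Γ(P, W.1)
  have hW' : IsWeaklyRegular Γ(P, W.1) (rs.map (algebraMap Γ(P, U.1) Γ(P, W.1))) :=
    (e.toRingEquiv.toAddEquiv.isWeaklyRegular_congr
      (List.forall₂_map_left_iff.2 (List.forall₂_map_right_iff.2 (List.forall₂_same.2 fun a _ b => by
        show e (_ * b) = _ * e b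
        rw [map_mul, AlgEquiv.commutes])))).1 hW
  have hker : ι.ker.ideal W = Ideal.ofList (rs.map (algebraMap Γ(P, U.1) Γ(P, W.1))) := by
    rw [← Ideal.map_ofList, hrs]
    exact (ι.ker.map_ideal (show W ≤ U from P.basicOpen_le g)).symm
  refine ⟨W, hxg, inferInstance, _, by simp [rs], ⟨hW', ?_⟩, (ι.ker_apply W).symm.trans hker⟩
  rw [smul_eq_mul, Ideal.mul_top, ← hker, ι.ker_apply W]
  haveI : Nontrivial Γ(X, ι ⁻¹ᵁ W.1) := by
    haveI : Nonempty (ι ⁻¹ᵁ W.1).toScheme := ⟨⟨x, hxg⟩⟩
    infer_instance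
  exact (RingHom.ker_ne_top _).symm

end Groth.Agent.FundLocal
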