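import Groth.Agent.FundLocal.StairAlt
import Groth.Agent.FundLocal.KillEval
import Groth.Agent.FundLocal.AffineRes
import Groth.Agent.CohDual.InjStalk
import Mathlib.RingTheory.Regular.Flat

/-!
# The staircase of the sections of an injective resolution over an affine open
-/

set_option autoImplicit false
set_option linter.style.haveILetI false

universe u

open CategoryTheory CategoryTheory.Limits Opposite AlgebraicGeometry TopologicalSpace

namespace Groth.Agent.FundLocal

/-- Weakly regular sequences stay colon-free after a flat base change. -/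
theorem mem_of_mul_mem {A B : Type u} [CommRing A] [CommRing B] [Algebra A B] [Module.Flat A B] {p : List A} {f : A}
    {l' : List A} (h : RingTheory.Sequence.IsWeaklyRegular A (p ++ f :: l')) (c : B)
    (hc : algebraMap A B f * c ∈ Ideal.ofList (p.map (algebraMap A B))) :
    c ∈ Ideal.ofList (p.map (algebraMap A B)) := by
  have h' := h.of_flat (S := B)
  rw [List.map_append, List.map_cons, RingTheory.Sequence.isWeaklyRegular_iff] at h'
  have hreg := (isSMulRegular_quotient_iff_mem_of_smul_mem ..).1 (h' p.length (by simp)) c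
  have hI : (Ideal.ofList ((p.map (algebraMap A B) ++ algebraMap A B f :: l'.map (algebraMap A B)).take p.length) •
      ⊤ : Submodule B B) = Ideal.ofList (p.map (algebraMap A B)) := by
    rw [List.take_left' (List.length_map ..), smul_eq_mul, Ideal.mul_top]
  have hget : (p.map (algebraMap A B) ++ algebraMap A B f :: l'.map (algebraMap A B))[p.length]'(by simp) =
      algebraMap A B f := by simp
  rw [hI, hget] at hreg
  exact hreg hc

variable {P X : Scheme.{u}} (ι : X ⟶ P) {F : P.Modules} (I : InjectiveResolution F)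

/-- `ι_* ι^* F`. -/
noncomputable abbrev target (F : P.Modules) : P.Modules :=
  (Scheme.Modules.pushforward ι).obj ((Scheme.Modules.pullback ι).obj F)

/-- `F → ι_* ι^* F`. -/
noncomputable abbrev toTarget (F : P.Modules) : F ⟶ target ι F :=
  (Scheme.Modules.pullbackPushforwardAdjunction ι).unit.app F

/-- The ideal of functions vanishing on `X`. -/
noncomputable abbrev vanI (V : P.Opens) : Ideal Γ(P, V) := RingHom.ker (ι.app V).hom

lemma vanI_kills {F : P.Modules} {V : P.Opens} (a : Γ(P, V)) (ha : a ∈ vanI ι V) (q : Γ(target ι F, V)) :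
    a • q = 0 := by
  show (ι.app V a) • (show Γ((Scheme.Modules.pullback ι).obj F, ι ⁻¹ᵁ V) from q) = 0
  rw [show ι.app V a = 0 from ha, zero_smul]

variable {ι}

/-- Sections in all degrees. -/
abbrev GSec (V : P.Opens) : Type u := ∀ n : ℕ, Γ(I.cocomplex.X n, V)

/-- The differential. -/
noncomputable def dSec (V : P.Opens) : GSec I V →ₗ[Γ(P, V)] GSec I V where
  toFun g n := match n with
    | 0 => 0
    | m + 1 => (I.cocomplex.d m (m + 1)).app V (g m)
  map_add' g g' := funext fun n => match n with
    | 0 => (add_zero 0).symm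
    | m + 1 => map_add _ (g m) (g' m)
  map_smul' a g := funext fun n => match n with
    | 0 => (smul_zero a).symm
    | m + 1 => Scheme.Modules.Hom.app_smul (I.cocomplex.d m (m + 1)) a (g m)

lemma dSec_zero (V : P.Opens) (g : GSec I V) : dSec I V g 0 = 0 := rfl

lemma dSec_succ (V : P.Opens) (g : GSec I V) (m : ℕ) :
    dSec I V g (m + 1) = (I.cocomplex.d m (m + 1)).app V (g m) := rfl

/-- Sections supported in one degree. -/
def degSec (V : P.Opens) (n : ℤ) : Submodule Γ(P, V) (GSec I V) where
  carrier := {g | ∀ m : ℕ, (m : ℤ) ≠ n → g m = 0}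
  add_mem' hx hy m hm := by rw [Pi.add_apply, hx m hm, hy m hm, add_zero]
  zero_mem' _ _ := rfl
  smul_mem' a _ hx m hm := by rw [Pi.smul_apply, hx m hm, smul_zero]

lemma d_app_d (V : P.Opens) (m : ℕ) (x : Γ(I.cocomplex.X m, V)) :
    (I.cocomplex.d (m + 1) (m + 1 + 1)).app V ((I.cocomplex.d m (m + 1)).app V x) = 0 := by
  rw [← CategoryTheory.comp_apply, ← Scheme.Modules.Hom.comp_app, I.cocomplex.d_comp_d]
  rfl

variable (ι)

/-- The augmentation `F → I⁰`. -/
noncomputable def ι₀ : F ⟶ I.cocomplex.X 0 := I.ι.f 0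

open Classical in
/-- The augmentation. -/
noncomputable def πSec (V : P.Opens) (g : GSec I V) : Γ(target ι F, V) :=
  if h : ∃ z : Γ(F, V), (ι₀ I).app V z = g 0 then (toTarget ι F).app V h.choose else 0

variable {I}

lemma ι₀_injective (V : P.Opens) : Function.Injective ((ι₀ I).app V) :=
  (QCohLib.mono_iff_app_injective _).1 (mono_of_isLimit_fork I.isLimitKernelFork : Mono (ι₀ I)) V

lemma πSec_eq {V : P.Opens} {g : GSec I V} (z : Γ(F, V)) (hz : (ι₀ I).app V z = g 0) :
    πSec ι I V g = (toTarget ι F).app V z := by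
  have h : ∃ z : Γ(F, V), (ι₀ I).app V z = g 0 := ⟨z, hz⟩
  rw [πSec, dif_pos h, ι₀_injective V (h.choose_spec.trans hz.symm)]

lemma exists_of_cocycle {V : P.Opens} {g : GSec I V} (hd : dSec I V g = 0) :
    ∃ z : Γ(F, V), (ι₀ I).app V z = g 0 := by
  let e : F ≅ cyc I 0 := IsLimit.conePointUniqueUpToIso I.isLimitKernelFork (limit.isLimit _)
  have he : e.inv ≫ ι₀ I = kernel.ι (I.cocomplex.d 0 (0 + 1)) :=
    IsLimit.conePointUniqueUpToIso_inv_comp I.isLimitKernelFork (limit.isLimit _) WalkingParallelPair.zero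
  have h0 : (I.cocomplex.d 0 (0 + 1)).app V (g 0) = 0 := congrFun hd 1
  refine ⟨e.inv.app V (OmegaSh.kerLift _ V (g 0) h0), ?_⟩
  rw [← CategoryTheory.comp_apply, ← Scheme.Modules.Hom.comp_app, he]
  exact OmegaSh.ι_kerLift _ V (g 0) h0

variable (I) in
/-- The staircase data of an affine open. -/
noncomputable def stair [F.IsQuasicoherent] {V : P.Opens} (hV : IsAffineOpen V) :
    Stair.{u} Γ(P, V) Γ(target ι F, V) where
  G := GSec I V
  d := dSec I V
  deg := degSec I V
  k := 0
  π := πSec ι I V
  d_mem {n x} hx := fun m hm => by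
    match m with
    | 0 => rfl
    | m + 1 =>
      show (I.cocomplex.d m (m + 1)).app V (x m) = 0
      rw [hx m (by omega)]
      exact map_zero ((I.cocomplex.d m (m + 1)).app V).hom
  dd x := funext fun n => by
    match n with
    | 0 => rfl
    | 1 => exact map_zero ((I.cocomplex.d 0 (0 + 1)).app V).hom
    | m + 2 => exact d_app_d I V m (x m)
  acyc {n} hn y hy hdy := by
    obtain ⟨m, rfl⟩ : ∃ m : ℕ, n = (m : ℤ) + 1 := ⟨(n - 1).toNat, by omega⟩
    obtain ⟨x, hx⟩ := exists_preimage I hV m (y (m + 1)) (congrFun hdy (m + 2))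
    refine ⟨Pi.single m x, fun j hj => Pi.single_eq_of_ne (by omega) _, funext fun j => ?_⟩
    match j with
    | 0 => exact (hy 0 (by omega)).symm
    | j + 1 =>
      rw [dSec_succ]
      rcases eq_or_ne j m with rfl | hjm
      · rw [Pi.single_eq_same, hx]
      · rw [Pi.single_eq_of_ne hjm, map_zero, hy (j + 1) (by omega)]
  π_add x y _ hdx _ hdy := by
    obtain ⟨a, ha⟩ := exists_of_cocycle hdx
    obtain ⟨b, hb⟩ := exists_of_cocycle hdy
    rw [πSec_eq ι a ha, πSec_eq ι b hb, πSec_eq ι (a + b) (by rw [map_add, ha, hb]; rfl), map_add]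
  π_smul c x _ hdx := by
    obtain ⟨a, ha⟩ := exists_of_cocycle hdx
    rw [πSec_eq ι a ha, πSec_eq ι (c • a) (by rw [Scheme.Modules.Hom.app_smul, ha]; rfl), Scheme.Modules.Hom.app_smul]
  π_d x hx := by
    rw [πSec_eq ι 0 (by rw [map_zero, dSec_zero]), map_zero]

variable [F.IsQuasicoherent]

/-- Restriction of staircases. -/
noncomputable def stairRes {V W : P.Opens} (hV : IsAffineOpen V) (hW : IsAffineOpen W) (h : W ≤ V) :
    Stair.Hom (P.presheaf.map (homOfLE h).op).hom ((target ι F).presheaf.map (homOfLE h).op).hom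
      (stair ι I hV) (stair ι I hW) where
  g := AddMonoidHom.mk' (fun g n => (I.cocomplex.X n).presheaf.map (homOfLE h).op (g n))
    fun g g' => funext fun n => map_add _ (g n) (g' n)
  g_smul a x := funext fun n => Scheme.Modules.map_smul _ _ a (x n)
  g_d x := funext fun n => by
    match n with
    | 0 => exact map_zero ((I.cocomplex.X 0).presheaf.map (homOfLE h).op).hom
    | m + 1 => exact (QCohLib.app_map _ h (x m)).symm
  g_deg {n x} hx := fun m hm => by
    show (I.cocomplex.X m).presheaf.map (homOfLE h).op (x m) = 0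
    rw [hx m hm]
    exact map_zero ((I.cocomplex.X m).presheaf.map (homOfLE h).op).hom
  k_eq := rfl
  g_π {x} hx := by
    obtain ⟨a, ha⟩ := exists_of_cocycle (I := I) (g := x) hx.2
    show (target ι F).presheaf.map (homOfLE h).op (πSec ι I V x) = πSec ι I W _
    rw [πSec_eq ι a ha, πSec_eq ι (F.presheaf.map (homOfLE h).op a)]
    · exact (QCohLib.app_map _ h a).symm
    · show (ι₀ I).app W _ = (I.cocomplex.X 0).presheaf.map (homOfLE h).op (x 0)
      rw [← ha]
      exact QCohLib.app_map _ h a

/-- Multiplication by the next element of a regular sequence is surjective on killed sections of injectives. -/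
theorem exists_div {V : P.Opens} (hV : IsAffineOpen V) (Q : P.Modules) [Injective Q] {p : List Γ(P, V)} {f : Γ(P, V)}
    {l' : List Γ(P, V)} (hreg : RingTheory.Sequence.IsWeaklyRegular Γ(P, V) (p ++ f :: l')) (s : Γ(Q, V))
    (hs : ∀ a ∈ p, a • s = 0) : ∃ t : Γ(Q, V), (∀ a ∈ p, a • t = 0) ∧ f • t = s := by
  classical
  let m := p.length
  let α : Fin (m + 1) → Γ(P, V) := Fin.snoc (fun i => p.get i) f
  let v : Fin (m + 1) → Γ(Q, V) := Fin.snoc (fun _ => 0) s
  obtain ⟨t, ht⟩ := CohDual.InjStalk.exists_extend Q α v fun y hy c hc => by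
    let _ : Algebra Γ(P, V) (P.presheaf.stalk y) := (P.presheaf.germ V y hy).hom.toAlgebra
    have hloc := hV.isLocalization_stalk ⟨y, hy⟩
    haveI : IsLocalization (hV.primeIdealOf ⟨y, hy⟩).asIdeal.primeCompl (P.presheaf.stalk y) := hloc
    haveI : Module.Flat Γ(P, V) (P.presheaf.stalk y) :=
      IsLocalization.flat _ (hV.primeIdealOf ⟨y, hy⟩).asIdeal.primeCompl
    rw [Fin.sum_univ_castSucc] at hc ⊢
    simp only [α, Fin.snoc_castSucc, Fin.snoc_last] at hc
    simp only [v, Fin.snoc_castSucc, Fin.snoc_last]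
    rw [Finset.sum_eq_zero fun i _ => by rw [map_zero, smul_zero], zero_add]
    have hmem : algebraMap Γ(P, V) (P.presheaf.stalk y) f * c (Fin.last m) ∈
        Ideal.ofList (p.map (algebraMap Γ(P, V) (P.presheaf.stalk y))) := by
      rw [mul_comm, RingHom.algebraMap_toAlgebra, eq_neg_of_add_eq_zero_right hc]
      refine neg_mem (Ideal.sum_mem _ fun i _ => Ideal.mul_mem_left _ _ ?_)
      exact Ideal.subset_span (List.mem_map.2 ⟨_, List.get_mem p i, rfl⟩)
    have h2 := mem_of_mul_mem hreg _ hmem
    rw [Ideal.ofList] at h2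
    generalize c (Fin.last m) = b at h2 ⊢
    induction h2 using Submodule.span_induction with
    | mem z hz =>
      obtain ⟨a, ha, rfl⟩ := List.mem_map.1 hz
      show P.presheaf.germ V y hy a • Q.presheaf.germ V y hy s = 0
      rw [← QCohLib.germ_smul, hs a ha, map_zero]
    | zero => exact zero_smul _ _
    | add z w _ _ hz hw => rw [add_smul, hz, hw, add_zero]
    | smul b z _ hz => rw [smul_assoc, hz, smul_zero]
  refine ⟨t, fun a ha => ?_, ?_⟩
  · obtain ⟨i, rfl⟩ := List.get_of_mem ha
    simpa [α, v, Fin.snoc_castSucc] using ht i.castSucc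
  · simpa [α, v, Fin.snoc_last] using ht (Fin.last m)

end Groth.Agent.FundLocal
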