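import Groth.Agent.FundLocal.SectStair
import Groth.Agent.FundLocal.PullAffine

/-!
# The staircase value of cocycles of `Hom(ι_* O_X, I)` over an affine open
-/

set_option autoImplicit false
set_option linter.style.haveILetI false

universe u

open CategoryTheory CategoryTheory.Limits Opposite AlgebraicGeometry TopologicalSpace

namespace Groth.Agent.FundLocal

variable {P X : Scheme.{u}} (ι : X ⟶ P) [IsClosedImmersion ι] [ModSite.HasSheafHom (O := P.sheaf) (oX ι)]
  {F : P.Modules} [F.IsQuasicoherent] (I : InjectiveResolution F)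

/-- The differential of `Hom(ι_* O_X, I)` on sections. -/
noncomputable def dHom (n : ℕ) : homX ι (I.cocomplex.X n) ⟶ homX ι (I.cocomplex.X (n + 1)) :=
  (ModSite.sheafHom (O := P.sheaf) (oX ι)).map (I.cocomplex.d n (n + 1))

omit [F.IsQuasicoherent] in
lemma ev1_dHom (n : ℕ) (V : P.Opens) (t : Γ(homX ι (I.cocomplex.X n), V)) :
    ev1 ι (I.cocomplex.X (n + 1)) V ((dHom ι I n).app V t) =
      (I.cocomplex.d n (n + 1)).app V (ev1 ι (I.cocomplex.X n) V t) :=
  ev1_map ι _ V t

/-- The cocycle attached to a section of `Hom(ι_* O_X, Iʳ)`. -/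
noncomputable def cocy (r : ℕ) (V : P.Opens) : Γ(homX ι (I.cocomplex.X r), V) →ₗ[Γ(P, V)] GSec I V :=
  (LinearMap.single Γ(P, V) (fun n => Γ(I.cocomplex.X n, V)) r).comp (ev1 ι (I.cocomplex.X r) V)

omit [F.IsQuasicoherent] in
lemma cocy_apply (r : ℕ) (V : P.Opens) (t : Γ(homX ι (I.cocomplex.X r), V)) :
    cocy ι I r V t = Pi.single r (ev1 ι (I.cocomplex.X r) V t) := rfl

omit [F.IsQuasicoherent] in
lemma cocy_deg (r : ℕ) (V : P.Opens) (t : Γ(homX ι (I.cocomplex.X r), V)) :
    cocy ι I r V t ∈ degSec I V (r : ℤ) := fun m hm => by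
  rw [cocy_apply, Pi.single_eq_of_ne (by omega)]

omit [F.IsQuasicoherent] in
lemma dSec_cocy (r : ℕ) (V : P.Opens) (t : Γ(homX ι (I.cocomplex.X r), V)) :
    dSec I V (cocy ι I r V t) = cocy ι I (r + 1) V ((dHom ι I r).app V t) := by
  funext n
  rw [cocy_apply, cocy_apply, ev1_dHom]
  match n with
  | 0 => rw [dSec_zero, Pi.single_eq_of_ne (by omega)]
  | m + 1 =>
    rw [dSec_succ]
    rcases eq_or_ne m r with rfl | hm
    · rw [Pi.single_eq_same, Pi.single_eq_same]
    · rw [Pi.single_eq_of_ne hm, Pi.single_eq_of_ne (by omega), map_zero]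

omit [F.IsQuasicoherent] in
lemma smul_cocy (r : ℕ) (V : P.Opens) (t : Γ(homX ι (I.cocomplex.X r), V)) (a : vanI ι V) :
    (a : Γ(P, V)) • cocy ι I r V t = 0 := by
  funext n
  rw [cocy_apply, Pi.smul_apply, Pi.zero_apply]
  rcases eq_or_ne n r with rfl | hn
  · rw [Pi.single_eq_same]
    exact (killed_ev1 ι _ V t).smul_eq a.1 a.2
  · rw [Pi.single_eq_of_ne hn, smul_zero]

lemma cocy_mem_Z {V : P.Opens} (hV : IsAffineOpen V) (r : ℕ) (t : Γ(homX ι (I.cocomplex.X r), V))
    (ht : (dHom ι I r).app V t = 0) :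
    cocy ι I r V t ∈ (stair ι I hV).Z ((stair ι I hV).k + r) :=
  ⟨by show cocy ι I r V t ∈ degSec I V (0 + (r : ℤ)); rw [zero_add]; exact cocy_deg ι I r V t,
    by show dSec I V (cocy ι I r V t) = 0; rw [dSec_cocy, ht, map_zero]⟩

/-- **The alternating map of a cocycle.** -/
noncomputable def val {V : P.Opens} (hV : IsAffineOpen V) {r : ℕ} (t : Γ(homX ι (I.cocomplex.X r), V))
    (ht : (dHom ι I r).app V t = 0) : vanI ι V [⋀^Fin r]→ₗ[Γ(P, V)] Γ(target ι F, V) :=
  Stair.alt (fun a ha q => vanI_kills ι a ha q) (stair ι I hV) (cocy ι I r V t) (cocy_mem_Z ι I hV r t ht)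
    (smul_cocy ι I r V t)

lemma val_apply {V : P.Opens} (hV : IsAffineOpen V) {r : ℕ} (t : Γ(homX ι (I.cocomplex.X r), V))
    (ht : (dHom ι I r).app V t = 0) (x : Fin r → vanI ι V) :
    val ι I hV t ht x = Stair.ev (fun a ha q => vanI_kills ι a ha q) (stair ι I hV) (List.ofFn x) (cocy ι I r V t) := rfl

lemma val_add {V : P.Opens} (hV : IsAffineOpen V) {r : ℕ} (t t' : Γ(homX ι (I.cocomplex.X r), V))
    (ht : (dHom ι I r).app V t = 0) (ht' : (dHom ι I r).app V t' = 0) (x : Fin r → vanI ι V) :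
    val ι I hV (t + t') (by rw [map_add, ht, ht', add_zero]) x = val ι I hV t ht x + val ι I hV t' ht' x := by
  rw [val_apply, val_apply, val_apply, map_add]
  exact Stair.ev_add _ _ _ (by rw [List.length_ofFn]; exact cocy_mem_Z ι I hV r t ht) (fun a _ => smul_cocy ι I r V t a)
    (by rw [List.length_ofFn]; exact cocy_mem_Z ι I hV r t' ht') (fun a _ => smul_cocy ι I r V t' a)

lemma val_smul {V : P.Opens} (hV : IsAffineOpen V) {r : ℕ} (c : Γ(P, V)) (t : Γ(homX ι (I.cocomplex.X r), V))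
    (ht : (dHom ι I r).app V t = 0) (x : Fin r → vanI ι V) :
    val ι I hV (c • t) (by rw [Scheme.Modules.Hom.app_smul, ht, smul_zero]) x = c • val ι I hV t ht x := by
  rw [val_apply, val_apply, map_smul]
  exact Stair.ev_smul _ _ _ (by rw [List.length_ofFn]; exact cocy_mem_Z ι I hV r t ht)
    (fun a _ => smul_cocy ι I r V t a) c

lemma val_dHom {V : P.Opens} (hV : IsAffineOpen V) {r : ℕ} (s : Γ(homX ι (I.cocomplex.X r), V))
    (hs : (dHom ι I (r + 1)).app V ((dHom ι I r).app V s) = 0) (x : Fin (r + 1) → vanI ι V) :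
    val ι I hV ((dHom ι I r).app V s) hs x = 0 := by
  rw [val_apply, ← dSec_cocy]
  refine Stair.ev_d _ _ _ ?_ (fun a _ => smul_cocy ι I r V s a)
  show cocy ι I r V s ∈ degSec I V (0 + ((List.ofFn x).length : ℤ) - 1)
  rw [List.length_ofFn, show (0 : ℤ) + ((r + 1 : ℕ) : ℤ) - 1 = r by omega]
  exact cocy_deg ι I r V s

/-- Restriction of vanishing functions. -/
noncomputable def resI {V W : P.Opens} (h : W ≤ V) (a : vanI ι V) : vanI ι W :=
  ⟨P.presheaf.map (homOfLE h).op a.1, app_res_eq_zero ι h a.1 a.2⟩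

lemma val_res {V W : P.Opens} (hV : IsAffineOpen V) (hW : IsAffineOpen W) (h : W ≤ V) {r : ℕ}
    (t : Γ(homX ι (I.cocomplex.X r), V)) (ht : (dHom ι I r).app V t = 0) (x : Fin r → vanI ι V) :
    (target ι F).presheaf.map (homOfLE h).op (val ι I hV t ht x) =
      val ι I hW ((homX ι (I.cocomplex.X r)).presheaf.map (homOfLE h).op t)
        (by rw [QCohLib.app_map, ht, map_zero]) (fun i => resI ι h (x i)) := by
  rw [val_apply, val_apply]
  refine (Stair.ev_map (fun a ha q => vanI_kills ι a ha q) (fun a ha q => vanI_kills ι a ha q) _ _ (resI ι h)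
    (fun _ => rfl) _ _ _ (stairRes ι hV hW h) _ (by rw [List.length_ofFn]; exact cocy_mem_Z ι I hV r t ht)
    (fun a _ => smul_cocy ι I r V t a)).trans ?_
  rw [List.map_ofFn]
  congr 1
  funext n
  show (I.cocomplex.X n).presheaf.map (homOfLE h).op (cocy ι I r V t n) = cocy ι I r W _ n
  rw [cocy_apply, cocy_apply, ev1_res]
  rcases eq_or_ne n r with rfl | hn
  · rw [Pi.single_eq_same, Pi.single_eq_same]
  · rw [Pi.single_eq_of_ne hn, Pi.single_eq_of_ne hn, map_zero]

/-- **Bijectivity for a regular generating sequence.** -/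
theorem val_bijective {V : P.Opens} (hV : IsAffineOpen V) {r : ℕ} (f : Fin r → vanI ι V)
    (hreg : RingTheory.Sequence.IsWeaklyRegular Γ(P, V) (List.ofFn fun i => (f i : Γ(P, V))))
    (hspan : Ideal.span (Set.range fun i => (f i : Γ(P, V))) = vanI ι V) :
    (∀ q, ∃ (t : Γ(homX ι (I.cocomplex.X r), V)) (ht : (dHom ι I r).app V t = 0), val ι I hV t ht f = q) ∧
    ∀ (t : Γ(homX ι (I.cocomplex.X r), V)) (ht : (dHom ι I r).app V t = 0), val ι I hV t ht f = 0 →
      (∀ (_ : r = 0), t = 0) ∧ ∀ (j : ℕ) (hj : r = j + 1), ∃ s : Γ(homX ι (I.cocomplex.X j), V),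
        cocy ι I (j + 1) V ((dHom ι I j).app V s) = cocy ι I r V t := by
  let hJ : ∀ a ∈ vanI ι V, ∀ q : Γ(target ι F, V), a • q = 0 := fun a ha q => vanI_kills ι a ha q
  have hker : ∀ z ∈ (stair ι I hV).Z (stair ι I hV).k, (stair ι I hV).π z = 0 →
      z ∈ ((stair ι I hV).deg ((stair ι I hV).k - 1)).map (stair ι I hV).d ⊔
        vanI ι V • (stair ι I hV).Z (stair ι I hV).k := by
    intro z hz hπ
    obtain ⟨a, ha⟩ := exists_of_cocycle (I := I) (g := z) hz.2
    have hπ' : πSec ι I V z = 0 := hπ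
    rw [πSec_eq ι a ha] at hπ'
    have hmem := pullSect_eq_zero ι F hV a hπ'
    refine Submodule.mem_sup_right ?_
    let i₀ : Γ(F, V) →ₗ[Γ(P, V)] (stair ι I hV).G :=
      (LinearMap.single Γ(P, V) (fun n => Γ(I.cocomplex.X n, V)) 0).comp
        ({ toFun := fun b => (ι₀ I).app V b
           map_add' := map_add _
           map_smul' := fun c b => Scheme.Modules.Hom.app_smul (ι₀ I) c b } :
          Γ(F, V) →ₗ[Γ(P, V)] Γ(I.cocomplex.X 0, V))
    have hi₀ : ∀ b, i₀ b ∈ (stair ι I hV).Z (stair ι I hV).k := fun b => by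
      refine ⟨fun m hm => ?_, funext fun n => ?_⟩
      · show (Pi.single 0 ((ι₀ I).app V b) : GSec I V) m = 0
        exact Pi.single_eq_of_ne (fun e => hm (by subst e; rfl)) _
      · match n with
        | 0 => rfl
        | 1 =>
          show (I.cocomplex.d 0 (0 + 1)).app V ((Pi.single 0 ((ι₀ I).app V b) : GSec I V) 0) = 0
          rw [Pi.single_eq_same, ← CategoryTheory.comp_apply, ← Scheme.Modules.Hom.comp_app,
            show ι₀ I ≫ I.cocomplex.d 0 (0 + 1) = 0 from I.ι_f_zero_comp_complex_d]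
          rfl
        | m + 2 =>
          show (I.cocomplex.d (m + 1) (m + 1 + 1)).app V ((Pi.single 0 ((ι₀ I).app V b) : GSec I V) (m + 1)) = 0
          rw [Pi.single_eq_of_ne (by omega)]
          exact map_zero ((I.cocomplex.d (m + 1) (m + 1 + 1)).app V).hom
    have hz0 : z = i₀ a := funext fun n => by
      show z n = (Pi.single 0 ((ι₀ I).app V a) : GSec I V) n
      match n with
      | 0 => rw [Pi.single_eq_same, ha]
      | m + 1 =>
        rw [Pi.single_eq_of_ne (by omega)]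
        exact hz.1 (m + 1) (by show ((m + 1 : ℕ) : ℤ) ≠ 0; omega)
    rw [hz0]
    refine (Submodule.smul_le.2 fun c hc b _ => ?_ :
      vanI ι V • (⊤ : Submodule Γ(P, V) Γ(F, V)) ≤ (vanI ι V • (stair ι I hV).Z (stair ι I hV).k).comap i₀) hmem
    show i₀ (c • b) ∈ (vanI ι V • (stair ι I hV).Z (stair ι I hV).k : Submodule Γ(P, V) (stair ι I hV).G)
    rw [map_smul]
    exact Submodule.smul_mem_smul hc (hi₀ b)
  have hsurj : ∀ q, ∃ z ∈ (stair ι I hV).Z (stair ι I hV).k, (stair ι I hV).π z = q := by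
    intro q
    obtain ⟨a, rfl⟩ := pullSect_surjective ι F hV q
    refine ⟨Pi.single 0 ((ι₀ I).app V a), ⟨fun m hm => Pi.single_eq_of_ne (fun e => hm (by subst e; rfl)) _, ?_⟩,
      πSec_eq ι a (Pi.single_eq_same (M := fun n => Γ(I.cocomplex.X n, V)) 0 _).symm⟩
    refine funext fun n => ?_
    match n with
    | 0 => rfl
    | 1 =>
      show (I.cocomplex.d 0 (0 + 1)).app V ((Pi.single 0 ((ι₀ I).app V a) : GSec I V) 0) = 0
      rw [Pi.single_eq_same, ← CategoryTheory.comp_apply, ← Scheme.Modules.Hom.comp_app,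
        show ι₀ I ≫ I.cocomplex.d 0 (0 + 1) = 0 from I.ι_f_zero_comp_complex_d]
      rfl
    | m + 2 =>
      show (I.cocomplex.d (m + 1) (m + 1 + 1)).app V ((Pi.single 0 ((ι₀ I).app V a) : GSec I V) (m + 1)) = 0
      rw [Pi.single_eq_of_ne (by omega)]
      exact map_zero ((I.cocomplex.d (m + 1) (m + 1 + 1)).app V).hom
  have hspan' : Ideal.span {a | ∃ g ∈ List.ofFn f, (g : Γ(P, V)) = a} = vanI ι V := by
    refine Eq.trans (congrArg Ideal.span (Set.ext fun a => ?_)) hspan
    simp [List.mem_ofFn]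
  have hdiv : ∀ (p : List (vanI ι V)) (g : vanI ι V) (l' : List (vanI ι V)), List.ofFn f = p ++ g :: l' →
      ∀ (n : ℤ), ∀ s ∈ Stair.killedBy (stair ι I hV) p, s ∈ (stair ι I hV).deg n →
        ∃ t ∈ Stair.killedBy (stair ι I hV) p, t ∈ (stair ι I hV).deg n ∧ (g : Γ(P, V)) • t = s := by
    intro p g l' e n s hs hn
    have hreg' : RingTheory.Sequence.IsWeaklyRegular Γ(P, V) (p.map (fun a : vanI ι V => (a : Γ(P, V))) ++ (g : Γ(P, V)) :: l'.map (fun a : vanI ι V => (a : Γ(P, V)))) := by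
      rw [← List.map_cons, ← List.map_append, ← e, List.map_ofFn]
      exact hreg
    have key : ∀ m : ℕ, ∃ tm : Γ(I.cocomplex.X m, V), ((∀ a ∈ p, (a : Γ(P, V)) • tm = 0) ∧ (g : Γ(P, V)) • tm = s m) ∧
        ((m : ℤ) ≠ n → tm = 0) := by
      intro m
      by_cases hm : (m : ℤ) = n
      · obtain ⟨tm, h1, h2⟩ := exists_div hV (I.cocomplex.X m) hreg' (s m) fun a ha => by
          obtain ⟨b, hb, rfl⟩ := List.mem_map.1 ha
          exact congrFun (Stair.mem_killedBy.1 hs b hb) m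
        exact ⟨tm, ⟨fun a ha => h1 _ (List.mem_map.2 ⟨a, ha, rfl⟩), h2⟩, fun h => absurd hm h⟩
      · exact ⟨0, ⟨fun a _ => smul_zero _, by rw [smul_zero, hn m hm]⟩, fun _ => rfl⟩
    choose tm htm htm0 using key
    exact ⟨tm, Stair.mem_killedBy.2 fun a ha => funext fun m => (htm m).1 a ha, htm0, funext fun m => (htm m).2⟩
  obtain ⟨hs, hi⟩ := Stair.bijective_ev hJ (stair ι I hV) (List.ofFn f) hspan' hker hsurj hdiv
  rw [List.length_ofFn] at hs hi
  refine ⟨fun q => ?_, fun t ht hv => ?_⟩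
  · obtain ⟨e, he, hke, hev⟩ := hs q
    obtain ⟨t, ht⟩ := exists_ev1 ι (I.cocomplex.X r) V (e r) (killed_of_affine ι hV fun a ha => congrFun (hke ⟨a, ha⟩) r)
    have hce : cocy ι I r V t = e := funext fun n => by
      rw [cocy_apply, ht]
      rcases eq_or_ne n r with rfl | hn
      · rw [Pi.single_eq_same]
      · rw [Pi.single_eq_of_ne hn, he.1 n (by show (n : ℤ) ≠ 0 + r; omega)]
    have hd : (dHom ι I r).app V t = 0 := by
      apply ev1_injective ι (I.cocomplex.X (r + 1)) V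
      have h1 := congrFun (show dSec I V e = 0 from he.2) (r + 1)
      rw [← hce, dSec_cocy, cocy_apply, Pi.single_eq_same, Pi.zero_apply] at h1
      rw [h1, map_zero]
    exact ⟨t, hd, by rw [val_apply, hce]; exact hev⟩
  · obtain ⟨u, hu, hku, hdu⟩ := hi _ (cocy_mem_Z ι I hV r t ht) (smul_cocy ι I r V t) hv
    refine ⟨fun h0 => ?_, fun j hj => ?_⟩
    · subst h0
      apply ev1_injective ι (I.cocomplex.X 0) V
      have h1 := congrFun hdu 0
      rw [cocy_apply, Pi.single_eq_same] at h1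
      rw [← h1, map_zero]
      rfl
    · subst hj
      obtain ⟨s, hs'⟩ := exists_ev1 ι (I.cocomplex.X j) V (u j) (killed_of_affine ι hV fun a ha => congrFun (hku ⟨a, ha⟩) j)
      refine ⟨s, ?_⟩
      rw [← hdu, ← dSec_cocy]
      congr 1
      funext n
      rw [cocy_apply, hs']
      rcases eq_or_ne n j with rfl | hn
      · rw [Pi.single_eq_same]
      · rw [Pi.single_eq_of_ne hn, hu n (by show (n : ℤ) ≠ 0 + ((j + 1 : ℕ) : ℤ) - 1; omega)]

omit [F.IsQuasicoherent] in
lemma cocy_injective (r : ℕ) (V : P.Opens) : Function.Injective (cocy ι I r V) := fun t t' h => by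
  refine ev1_injective ι _ V ?_
  have h1 := congrFun h r
  rwa [cocy_apply, cocy_apply, Pi.single_eq_same, Pi.single_eq_same] at h1

end Groth.Agent.FundLocal
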