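import Mathlib.LinearAlgebra.Alternating.Basic
import Mathlib.RingTheory.Ideal.Span

/-!
# The staircase map of a complex and a list of elements of an ideal

For a complex `C` with a linear map `π` from its `k`-cocycles to a module `Q` killed by the ideal `J`, and `f ∈ J`, the
cocone of multiplication by `f` carries such a map in degree `k + 1`.  Iterating along a list `l` of length `r` gives a
map from the `(k + r)`-cocycles killed by `J` to `Q`, alternating and linear in `l`, and bijective on cohomology when the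
list is a generating sequence which is regular on the complex.
-/

set_option autoImplicit false
set_option linter.style.haveILetI false

universe u

namespace Groth.Agent.FundLocal

/-- A complex with a map on its cocycles in one degree, above which it is acyclic. -/
structure Stair (A : Type u) [CommRing A] (Q : Type u) [AddCommGroup Q] [Module A Q] : Type (u + 1) where
  G : Type u
  [acg : AddCommGroup G]
  [mod : Module A G]
  d : G →ₗ[A] G
  deg : ℤ → Submodule A G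
  k : ℤ
  π : G → Q
  d_mem : ∀ {n : ℤ} {x : G}, x ∈ deg n → d x ∈ deg (n + 1)
  dd : ∀ x : G, d (d x) = 0
  acyc : ∀ {n : ℤ}, k < n → ∀ y ∈ deg n, d y = 0 → ∃ x ∈ deg (n - 1), d x = y
  π_add : ∀ x y : G, x ∈ deg k → d x = 0 → y ∈ deg k → d y = 0 → π (x + y) = π x + π y
  π_smul : ∀ (a : A) (x : G), x ∈ deg k → d x = 0 → π (a • x) = a • π x
  π_d : ∀ x ∈ deg (k - 1), π (d x) = 0

attribute [instance] Stair.acg Stair.mod

namespace Stair

variable {A : Type u} [CommRing A] {Q : Type u} [AddCommGroup Q] [Module A Q] (C : Stair.{u} A Q)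

/-- The cocycles of degree `n`. -/
def Z (n : ℤ) : Submodule A C.G := C.deg n ⊓ LinearMap.ker C.d

lemma mem_Z {n : ℤ} {x : C.G} : x ∈ C.Z n ↔ x ∈ C.deg n ∧ C.d x = 0 := Iff.rfl

lemma d_mem_Z {n : ℤ} {x : C.G} (hx : x ∈ C.deg (n - 1)) : C.d x ∈ C.Z n :=
  ⟨by simpa using C.d_mem hx, C.dd x⟩

/-- `π` as a linear map on the cocycles. -/
def πl : C.Z C.k →ₗ[A] Q where
  toFun x := C.π x.1
  map_add' x y := C.π_add x.1 y.1 x.2.1 x.2.2 y.2.1 y.2.2
  map_smul' a x := C.π_smul a x.1 x.2.1 x.2.2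

lemma π_zero : C.π 0 = 0 := C.πl.map_zero

lemma π_sub {x y : C.G} (hx : x ∈ C.Z C.k) (hy : y ∈ C.Z C.k) : C.π (x - y) = C.π x - C.π y :=
  C.πl.map_sub ⟨x, hx⟩ ⟨y, hy⟩

lemma π_neg {x : C.G} (hx : x ∈ C.Z C.k) : C.π (-x) = -C.π x := C.πl.map_neg ⟨x, hx⟩

/-- Scalars killing `Q`. -/
abbrev Kills (f : A) : Prop := ∀ q : Q, f • q = 0

/-- The differential of the cocone of `f`. -/
def stepD (f : A) : (C.G × C.G) →ₗ[A] C.G × C.G :=
  (C.d.comp (LinearMap.fst A C.G C.G)).prod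
    (f • LinearMap.fst A C.G C.G - C.d.comp (LinearMap.snd A C.G C.G))

@[simp] lemma stepD_apply (f : A) (p : C.G × C.G) : C.stepD f p = (C.d p.1, f • p.1 - C.d p.2) := rfl

/-- The degrees of the cocone. -/
def stepDeg (n : ℤ) : Submodule A (C.G × C.G) := (C.deg n).prod (C.deg (n - 1))

lemma mem_stepDeg {n : ℤ} {p : C.G × C.G} : p ∈ C.stepDeg n ↔ p.1 ∈ C.deg n ∧ p.2 ∈ C.deg (n - 1) := Iff.rfl

open Classical in
/-- The map on the cocycles of the cocone. -/
noncomputable def stepπ (f : A) (p : C.G × C.G) : Q :=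
  if h : ∃ c ∈ C.deg C.k, C.d c = p.1 then C.π (f • h.choose - p.2) else 0

lemma aux_mem (f : A) {p : C.G × C.G} (hp : p ∈ C.stepDeg (C.k + 1)) (hd : C.stepD f p = 0)
    {c : C.G} (hc : c ∈ C.deg C.k) (hdc : C.d c = p.1) : f • c - p.2 ∈ C.Z C.k := by
  refine ⟨sub_mem ((C.deg _).smul_mem f hc) (by simpa using hp.2), ?_⟩
  show C.d (f • c - p.2) = 0
  rw [map_sub, map_smul, hdc]
  exact congrArg Prod.snd hd

lemma exists_lift {f : A} {p : C.G × C.G} (hp : p ∈ C.stepDeg (C.k + 1)) (hd : C.stepD f p = 0) :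
    ∃ c ∈ C.deg C.k, C.d c = p.1 := by
  have := C.acyc (n := C.k + 1) (by omega) p.1 hp.1 (congrArg Prod.fst hd)
  simpa using this

variable {f : A}

lemma stepπ_eq (hf : Kills (Q := Q) f) {p : C.G × C.G} (hp : p ∈ C.stepDeg (C.k + 1)) (hd : C.stepD f p = 0)
    {c : C.G} (hc : c ∈ C.deg C.k) (hdc : C.d c = p.1) : C.stepπ f p = C.π (f • c - p.2) := by
  have h : ∃ c ∈ C.deg C.k, C.d c = p.1 := ⟨c, hc, hdc⟩
  rw [stepπ, dif_pos h]
  obtain ⟨hc', hdc'⟩ := h.choose_spec
  have hz : h.choose - c ∈ C.Z C.k := ⟨sub_mem hc' hc, by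
    show C.d (_ - _) = 0
    rw [map_sub, hdc', hdc, sub_self]⟩
  rw [← sub_eq_zero, ← C.π_sub (C.aux_mem f hp hd hc' hdc') (C.aux_mem f hp hd hc hdc),
    sub_sub_sub_cancel_right, ← smul_sub, C.π_smul f _ hz.1 hz.2, hf]

/-- The cocone of multiplication by an element killing `Q`. -/
noncomputable def step (f : A) (hf : Kills (Q := Q) f) : Stair.{u} A Q where
  G := C.G × C.G
  d := C.stepD f
  deg := C.stepDeg
  k := C.k + 1
  π := C.stepπ f
  d_mem {n} x hx := ⟨C.d_mem hx.1, by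
    rw [add_sub_cancel_right]
    exact sub_mem ((C.deg _).smul_mem f hx.1) (by simpa using C.d_mem hx.2)⟩
  dd x := by
    simp only [stepD_apply, C.dd, map_sub, map_smul, sub_zero, sub_self, Prod.mk_zero_zero]
  acyc {n} hn y hy hdy := by
    obtain ⟨c, hc, hdc⟩ := C.acyc (n := n) (by omega) y.1 hy.1 (congrArg Prod.fst hdy)
    obtain ⟨w, hw, hdw⟩ := C.acyc (n := n - 1) (by omega) (f • c - y.2)
      (sub_mem ((C.deg _).smul_mem f hc) hy.2) (by rw [map_sub, map_smul, hdc]; exact congrArg Prod.snd hdy)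
    refine ⟨(c, w), ⟨hc, hw⟩, Prod.ext hdc ?_⟩
    show f • c - C.d w = y.2
    rw [hdw, sub_sub_cancel]
  π_add x y hx hdx hy hdy := by
    obtain ⟨c, hc, hdc⟩ := C.exists_lift hx hdx
    obtain ⟨c', hc', hdc'⟩ := C.exists_lift hy hdy
    rw [C.stepπ_eq hf hx hdx hc hdc, C.stepπ_eq hf hy hdy hc' hdc',
      C.stepπ_eq hf (add_mem hx hy) (by rw [map_add, hdx, hdy, add_zero]) (add_mem hc hc')
        (by rw [map_add, hdc, hdc']; rfl), ← C.π_add _ _ (C.aux_mem f hx hdx hc hdc).1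
        (C.aux_mem f hx hdx hc hdc).2 (C.aux_mem f hy hdy hc' hdc').1 (C.aux_mem f hy hdy hc' hdc').2]
    congr 1
    show f • (c + c') - (x.2 + y.2) = _
    rw [smul_add]
    abel
  π_smul a x hx hdx := by
    obtain ⟨c, hc, hdc⟩ := C.exists_lift hx hdx
    rw [C.stepπ_eq hf hx hdx hc hdc, C.stepπ_eq hf ((C.stepDeg _).smul_mem a hx)
      (by rw [map_smul, hdx, smul_zero]) ((C.deg _).smul_mem a hc) (by rw [map_smul, hdc]; rfl),
      ← C.π_smul a _ (C.aux_mem f hx hdx hc hdc).1 (C.aux_mem f hx hdx hc hdc).2]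
    congr 1
    show f • a • c - a • x.2 = _
    rw [smul_sub, smul_comm]
  π_d x hx := by
    rw [add_sub_cancel_right] at hx
    have h := C.stepπ_eq hf (p := C.stepD f x) ⟨C.d_mem hx.1, by
        rw [add_sub_cancel_right]
        exact sub_mem ((C.deg _).smul_mem f hx.1) (by simpa using C.d_mem hx.2)⟩
      (by simp only [stepD_apply, C.dd, map_sub, map_smul, sub_zero, sub_self, Prod.mk_zero_zero]) hx.1 rfl
    rw [h]
    show C.π (f • x.1 - (f • x.1 - C.d x.2)) = 0
    rw [sub_sub_cancel, C.π_d _ hx.2]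

lemma mem_step_Z (hf : Kills (Q := Q) f) {n : ℤ} {a b : C.G} (ha : a ∈ C.deg n) (hb : b ∈ C.deg (n - 1))
    (hda : C.d a = 0) (hdb : C.d b = f • a) : ((a, b) : C.G × C.G) ∈ (C.step f hf).Z n :=
  ⟨⟨ha, hb⟩, Prod.ext hda (sub_eq_zero.2 hdb.symm)⟩

end Stair

end Groth.Agent.FundLocal
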