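import Groth.Agent.FundLocal.StairBuild
import Mathlib.Data.List.OfFn
import Mathlib.RingTheory.Ideal.Maps

/-!
# The staircase value is alternating and linear in the list, natural in the data, and bijective in the regular case
-/

set_option autoImplicit false
set_option linter.style.haveILetI false

universe u

namespace Groth.Agent.FundLocal.Stair

variable {A : Type u} [CommRing A] {Q : Type u} [AddCommGroup Q] [Module A Q]
  {B : Type u} [CommRing B] {Q' : Type u} [AddCommGroup Q'] [Module B Q']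
  {J : Ideal A} (hJ : ∀ a ∈ J, ∀ q : Q, a • q = 0) {J' : Ideal B} (hJ' : ∀ a ∈ J', ∀ q : Q', a • q = 0)

/-- The staircase commutes with morphisms. -/
theorem ev_map (φ : A →+* B) (q : Q →+ Q') (ψ : J → J') (hψ : ∀ f : J, (ψ f : B) = φ f) :
    ∀ (l : List J) (C : Stair.{u} A Q) (D : Stair.{u} B Q') (h : Hom φ q C D) (e : C.G),
      e ∈ C.Z (C.k + l.length) → (∀ f ∈ l, (f : A) • e = 0) →
      q (ev hJ C l e) = ev hJ' D (l.map ψ) (h.g e)
  | [], C, D, h, e, he, _ => h.g_π (x := e) (show e ∈ C.Z C.k by simpa using he)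
  | f :: l, C, D, h, e, he, hk => by
    have hh := h.step (f := f.1) (f' := (ψ f).1) (hψ f).symm (hJ f.1 f.2) (hJ' _ (ψ f).2)
    have := ev_map φ q ψ hψ l (C.step f.1 (hJ f.1 f.2)) (D.step (ψ f).1 (hJ' _ (ψ f).2))
      (h.step (hψ f).symm (hJ f.1 f.2) (hJ' _ (ψ f).2)) (e, 0)
      (C.mem_step_Z _ (by
          show e ∈ C.deg (C.k + 1 + l.length)
          rw [add_assoc, add_comm (1 : ℤ)]
          simpa using he.1) (zero_mem _) he.2 (by rw [map_zero, hk f (by simp)]))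
      (fun g hg => Prod.ext (hk g (List.mem_cons_of_mem _ hg)) (smul_zero _))
    refine this.trans ?_
    show ev hJ' (D.step (ψ f).1 (hJ' _ (ψ f).2)) (l.map ψ) (h.g e, h.g 0) =
      ev hJ' (D.step (ψ f).1 (hJ' _ (ψ f).2)) (l.map ψ) (h.g e, 0)
    rw [map_zero]

variable {C : Stair.{u} A Q}

lemma ev_cons (C : Stair.{u} A Q) (f : J) (l : List J) (e : C.G) :
    ev hJ C (f :: l) e = ev hJ (C.step f.1 (hJ f.1 f.2)) l (e, 0) := rfl

lemma step_pre {C : Stair.{u} A Q} {e : C.G} {m : ℕ} (he : e ∈ C.Z (C.k + (m + 1 : ℕ))) (hk : ∀ a : J, (a : A) • e = 0)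
    (f : J) : ((e, 0) : C.G × C.G) ∈ (C.step f.1 (hJ f.1 f.2)).Z ((C.step f.1 (hJ f.1 f.2)).k + m) ∧
      ∀ a : J, (a : A) • ((e, 0) : C.G × C.G) = 0 :=
  ⟨C.mem_step_Z _ (by
      show e ∈ C.deg (C.k + 1 + m)
      rw [add_assoc, add_comm (1 : ℤ)]
      simpa using he.1) (zero_mem _) he.2 (by rw [map_zero, hk f]),
    fun a => Prod.ext (hk a) (smul_zero _)⟩

theorem ev_swap : ∀ (l₁ : List J) (f g : J) (l₂ : List J) (C : Stair.{u} A Q) (e : C.G),
    e ∈ C.Z (C.k + (l₁ ++ f :: g :: l₂).length) → (∀ a : J, (a : A) • e = 0) →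
      ev hJ C (l₁ ++ g :: f :: l₂) e = -ev hJ C (l₁ ++ f :: g :: l₂) e
  | [], f, g, l₂, C, e, he, hk => by
    obtain ⟨h1, hk1⟩ := step_pre hJ (m := l₂.length + 1) he hk f
    obtain ⟨h2, hk2⟩ := step_pre hJ (C := C.step f.1 (hJ f.1 f.2)) (m := l₂.length) h1 hk1 g
    have := ev_map hJ hJ (RingHom.id A) (-AddMonoidHom.id Q) id (fun _ => rfl) l₂ _ _
      (swapHom C (hJ f.1 f.2) (hJ g.1 g.2)) ((e, 0), 0) h2 fun a _ => hk2 a
    rw [List.map_id] at this
    refine Eq.trans ?_ this.symm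
    show ev hJ ((C.step g.1 _).step f.1 _) l₂ ((e, 0), 0) = ev hJ ((C.step g.1 _).step f.1 _) l₂ ((e, 0), (0, -0))
    rw [neg_zero]
    rfl
  | a :: l₁, f, g, l₂, C, e, he, hk => by
    obtain ⟨h1, hk1⟩ := step_pre hJ (m := (l₁ ++ f :: g :: l₂).length) he hk a
    exact ev_swap l₁ f g l₂ (C.step a.1 _) (e, 0) h1 hk1

theorem ev_move : ∀ (l₂ : List J) (l₁ : List J) (g : J) (C : Stair.{u} A Q) (e : C.G),
    e ∈ C.Z (C.k + (l₁ ++ g :: l₂).length) → (∀ a : J, (a : A) • e = 0) →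
      ev hJ C (l₁ ++ g :: l₂) e = (-1 : ℤ) ^ l₂.length • ev hJ C (l₁ ++ l₂ ++ [g]) e
  | [], l₁, g, C, e, _, _ => by simp
  | h :: l₂, l₁, g, C, e, he, hk => by
    have hlen : (l₁ ++ h :: g :: l₂).length = (l₁ ++ g :: h :: l₂).length := by simp
    rw [ev_swap hJ l₁ h g l₂ C e (by rw [hlen]; exact he) hk]
    have h' := ev_move l₂ (l₁ ++ [h]) g C e (by
      convert he using 2
      simp) hk
    rw [List.append_assoc, List.singleton_append] at h'
    rw [h', List.length_cons, pow_succ, mul_neg_one, neg_smul]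
    congr 3
    simp

theorem exists_linear_last : ∀ (l : List J) (C : Stair.{u} A Q) (e : C.G),
    e ∈ C.Z (C.k + (l.length + 1 : ℕ)) → (∀ a : J, (a : A) • e = 0) →
      ∃ ψ : J →ₗ[A] Q, ∀ g, ev hJ C (l ++ [g]) e = ψ g
  | [], C, e, he, hk => by
    obtain ⟨c, hc, hdc⟩ := C.acyc (n := C.k + 1) (by omega) e (by simpa using he.1) he.2
    rw [add_sub_cancel_right] at hc
    have hz : ∀ g : J, (g : A) • c ∈ C.Z C.k := fun g => ⟨(C.deg _).smul_mem _ hc, by
      show C.d ((g : A) • c) = 0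
      rw [map_smul, hdc, hk g]⟩
    refine ⟨⟨⟨fun g => C.π ((g : A) • c), fun g g' => ?_⟩, fun a g => ?_⟩, fun g => ?_⟩
    · rw [← C.π_add _ _ (hz g).1 (hz g).2 (hz g').1 (hz g').2, ← add_smul]
      rfl
    · show C.π ((a • g : J).1 • c) = a • C.π ((g : A) • c)
      rw [← C.π_smul a _ (hz g).1 (hz g).2, smul_smul]
      rfl
    · obtain ⟨h1, -⟩ := step_pre hJ (m := 0) (by simpa using he) hk g
      show C.stepπ g.1 (e, 0) = C.π ((g : A) • c)
      have h1' : ((e, 0) : C.G × C.G) ∈ C.stepDeg (C.k + 1) := by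
        have h0 : ((e, 0) : C.G × C.G) ∈ C.stepDeg (C.k + 1 + (0 : ℕ)) := h1.1
        rwa [Nat.cast_zero, add_zero] at h0
      rw [C.stepπ_eq (hJ g.1 g.2) (p := (e, 0)) h1' h1.2 hc hdc, sub_zero]
  | f :: l, C, e, he, hk => by
    obtain ⟨h1, hk1⟩ := step_pre hJ (m := l.length + 1) he hk f
    exact exists_linear_last l (C.step f.1 _) (e, 0) h1 hk1

theorem ev_last_last : ∀ (l : List J) (f : J) (C : Stair.{u} A Q) (e : C.G),
    e ∈ C.Z (C.k + (l.length + 2 : ℕ)) → (∀ a : J, (a : A) • e = 0) → ev hJ C (l ++ [f, f]) e = 0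
  | [], f, C, e, he, hk => by
    obtain ⟨c, hc, hdc⟩ := C.acyc (n := C.k + 2) (by omega) e (by simpa using he.1) he.2
    rw [show C.k + 2 - 1 = C.k + 1 by ring] at hc
    obtain ⟨w, hw, hdw⟩ := C.acyc (n := C.k + 1) (by omega) ((f : A) • c) ((C.deg _).smul_mem _ hc)
      (by rw [map_smul, hdc, hk f])
    rw [add_sub_cancel_right] at hw
    obtain ⟨h1, hk1⟩ := step_pre hJ (m := 1) (by simpa using he) hk f
    obtain ⟨h2, -⟩ := step_pre hJ (C := C.step f.1 (hJ f.1 f.2)) (m := 0) h1 hk1 f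
    have hp : ((c, w) : C.G × C.G) ∈ (C.step f.1 (hJ f.1 f.2)).deg (C.step f.1 (hJ f.1 f.2)).k :=
      ⟨hc, by simpa [step] using hw⟩
    have hdp : (C.step f.1 (hJ f.1 f.2)).d (c, w) = ((e, 0) : C.G × C.G) := Prod.ext hdc (by
      show (f : A) • c - C.d w = 0
      rw [hdw, sub_self])
    have h2' : (((e, 0), 0) : (C.G × C.G) × (C.G × C.G)) ∈
        (C.step f.1 (hJ f.1 f.2)).stepDeg ((C.step f.1 (hJ f.1 f.2)).k + 1) := by
      have h0 : (((e, 0), 0) : (C.G × C.G) × (C.G × C.G)) ∈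
        (C.step f.1 (hJ f.1 f.2)).stepDeg ((C.step f.1 (hJ f.1 f.2)).k + 1 + (0 : ℕ)) := h2.1
      rwa [Nat.cast_zero, add_zero] at h0
    have haux := (C.step f.1 (hJ f.1 f.2)).aux_mem f.1 (p := ((e, 0), 0)) h2' h2.2 hp hdp
    show (C.step f.1 _).stepπ f.1 ((e, 0), 0) = 0
    rw [(C.step f.1 _).stepπ_eq (hJ f.1 f.2) (p := ((e, 0), 0)) h2' h2.2 hp hdp]
    refine (C.stepπ_eq (hJ f.1 f.2) haux.1 haux.2 hw ?_).trans ?_
    · show C.d w = (f : A) • c - 0
      rw [hdw, sub_zero]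
    · show C.π ((f : A) • w - ((f : A) • w - 0)) = 0
      rw [sub_zero, sub_self, C.π_zero]
  | a :: l, f, C, e, he, hk => by
    obtain ⟨h1, hk1⟩ := step_pre hJ (m := l.length + 2) he hk a
    exact ev_last_last l f (C.step a.1 _) (e, 0) h1 hk1

theorem ev_eq_zero_of_mem (l₁ : List J) (f : J) (l₂ : List J) (C : Stair.{u} A Q) (e : C.G)
    (he : e ∈ C.Z (C.k + (l₁ ++ f :: l₂).length)) (hk : ∀ a : J, (a : A) • e = 0) (hf : f ∈ l₁ ++ l₂) :
    ev hJ C (l₁ ++ f :: l₂) e = 0 := by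
  rw [ev_move hJ l₂ l₁ f C e he hk]
  obtain ⟨a, b, hab⟩ := List.mem_iff_append.1 hf
  rw [hab, List.append_assoc, List.cons_append]
  have hlen : (l₁ ++ f :: l₂).length = a.length + b.length + 2 := by
    have := congrArg List.length hab
    simp at this ⊢
    omega
  rw [hlen] at he
  rw [ev_move hJ (b ++ [f]) a f C e (by convert he using 2; simp; omega) hk, ← List.append_assoc a b [f],
    List.append_assoc (a ++ b), List.singleton_append,
    ev_last_last hJ (a ++ b) f C e (by convert he using 2; simp) hk, smul_zero, smul_zero]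

theorem exists_split {α : Type*} {r : ℕ} (x : Fin r → α) (i : Fin r) :
    ∃ l₁ l₂ : List α, (∀ y, List.ofFn (Function.update x i y) = l₁ ++ y :: l₂) ∧
      ∀ j, j ≠ i → x j ∈ l₁ ++ l₂ := by
  classical
  refine ⟨(List.ofFn x).take i, (List.ofFn x).drop (i + 1), fun y => ?_, fun j hj => ?_⟩
  · rw [← List.set_eq_take_cons_drop _ (by simp)]
    refine List.ext_getElem (by simp) fun n h1 h2 => ?_
    simp only [List.getElem_ofFn, List.getElem_set, Function.update_apply]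
    by_cases hn : (i : ℕ) = n
    · subst hn; simp
    · rw [if_neg hn, if_neg (fun h => hn (congrArg Fin.val h).symm)]
  · rw [List.mem_append]
    rcases lt_or_gt_of_ne (Fin.val_ne_iff.2 hj) with h | h
    · exact Or.inl (List.mem_take_iff_getElem.2 ⟨j, by simp; omega, by simp⟩)
    · exact Or.inr (List.mem_drop_iff_getElem.2 ⟨j - (i + 1), by simp; omega, by simp [Nat.add_sub_cancel' h]⟩)

/-- The staircase as an alternating map. -/
noncomputable def alt (C : Stair.{u} A Q) {r : ℕ} (e : C.G) (he : e ∈ C.Z (C.k + r))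
    (hk : ∀ a : J, (a : A) • e = 0) : J [⋀^Fin r]→ₗ[A] Q where
  toFun x := ev hJ C (List.ofFn x) e
  map_update_add' {_} x i y y' := by
    classical
    obtain ⟨l₁, l₂, hl, -⟩ := exists_split x i
    rename_i inst
    rw [Subsingleton.elim inst (instDecidableEqFin r)]
    have hlen : ∀ z : J, (l₁ ++ z :: l₂).length = r := fun z => by rw [← hl z, List.length_ofFn]
    have hp := hlen 0
    simp only [List.length_append, List.length_cons] at hp
    obtain ⟨ψ, hψ⟩ := exists_linear_last hJ (l₁ ++ l₂) C e (by convert he using 3; simp; omega) hk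
    simp only [hl, fun z => ev_move hJ l₂ l₁ z C e (by rw [hlen z]; exact he) hk, hψ, map_add, smul_add]
  map_update_smul' {_} x i a y := by
    classical
    obtain ⟨l₁, l₂, hl, -⟩ := exists_split x i
    rename_i inst
    rw [Subsingleton.elim inst (instDecidableEqFin r)]
    have hlen : ∀ z : J, (l₁ ++ z :: l₂).length = r := fun z => by rw [← hl z, List.length_ofFn]
    have hp := hlen 0
    simp only [List.length_append, List.length_cons] at hp
    obtain ⟨ψ, hψ⟩ := exists_linear_last hJ (l₁ ++ l₂) C e (by convert he using 3; simp; omega) hk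
    simp only [hl, fun z => ev_move hJ l₂ l₁ z C e (by rw [hlen z]; exact he) hk, hψ, map_smul, smul_comm a]
  map_eq_zero_of_eq' x i j hij hne := by
    classical
    obtain ⟨l₁, l₂, hl, hmem⟩ := exists_split x i
    have hx := hl (x i)
    rw [Function.update_eq_self] at hx
    rw [hx]
    refine ev_eq_zero_of_mem hJ l₁ (x i) l₂ C e ?_ hk (hij ▸ hmem j hne.symm)
    rw [← hx, List.length_ofFn]
    exact he

/-- Surjectivity of the iterated map. -/
theorem π_build_surj : ∀ (l : List J) (C : Stair.{u} A Q), (∀ q, ∃ z ∈ C.Z C.k, C.π z = q) →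
    ∀ q, ∃ z ∈ (build hJ C l).Z (build hJ C l).k, (build hJ C l).π z = q
  | [], _, h => h
  | f :: l, C, h => by
    refine π_build_surj l (C.step f.1 _) fun q => ?_
    obtain ⟨z, hz, hzq⟩ := h q
    have hd : ((0, -z) : C.G × C.G) ∈ (C.step f.1 (hJ f.1 f.2)).Z (C.k + 1) :=
      C.mem_step_Z _ (zero_mem _) (by simpa using neg_mem hz.1) (map_zero _)
        (by rw [map_neg, show C.d z = 0 from hz.2, neg_zero, smul_zero])
    refine ⟨(0, -z), hd, ?_⟩
    show C.stepπ f.1 (0, -z) = q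
    rw [C.stepπ_eq (hJ f.1 f.2) (p := (0, -z)) hd.1 hd.2 (zero_mem _) (map_zero _), smul_zero, zero_sub, neg_neg, hzq]

/-- A cocycle killed by `π` is a boundary up to the span of the remaining elements. -/
def KerP (C : Stair.{u} A Q) (l : List J) : Prop :=
  ∀ z ∈ C.Z C.k, C.π z = 0 → z ∈ (C.deg (C.k - 1)).map C.d ⊔ Ideal.span {a | ∃ f ∈ l, (f : A) = a} • C.Z C.k

theorem kerP_build : ∀ (l : List J) (C : Stair.{u} A Q), KerP C l → KerP (build hJ C l) ([] : List J)
  | [], _, h => h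
  | f :: l, C, h => by
    refine kerP_build l (C.step f.1 _) ?_
    intro p hp hπ
    obtain ⟨c, hc, hdc⟩ := C.exists_lift hp.1 hp.2
    have hz := C.aux_mem f.1 hp.1 hp.2 hc hdc
    have hπ' : C.stepπ f.1 p = 0 := hπ
    rw [C.stepπ_eq (hJ f.1 f.2) hp.1 hp.2 hc hdc] at hπ'
    let T : Submodule A (C.G × C.G) := (C.stepDeg (C.k + 1 - 1)).map (C.stepD f.1) ⊔
      Ideal.span {a | ∃ g ∈ l, (g : A) = a} • (C.stepDeg (C.k + 1) ⊓ LinearMap.ker (C.stepD f.1))
    show p ∈ T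
    have hk1 : C.k + 1 - 1 = C.k := add_sub_cancel_right _ _
    have hB : ∀ x ∈ C.stepDeg (C.k + 1 - 1), C.stepD f.1 x ∈ T := fun x hx =>
      Submodule.mem_sup_left (Submodule.mem_map_of_mem hx)
    have hc0 : ((c, 0) : C.G × C.G) ∈ C.stepDeg (C.k + 1 - 1) := by rw [hk1]; exact ⟨hc, zero_mem _⟩
    have key : ∀ z ∈ (C.deg (C.k - 1)).map C.d ⊔ Ideal.span {a | ∃ g ∈ f :: l, (g : A) = a} • C.Z C.k,
        ((0, z) : C.G × C.G) ∈ T := by
      suffices hle : (C.deg (C.k - 1)).map C.d ⊔ Ideal.span {a | ∃ g ∈ f :: l, (g : A) = a} • C.Z C.k ≤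
          T.comap (LinearMap.inr A C.G C.G) from fun z hz => hle hz
      refine sup_le ?_ (Submodule.smul_le.2 ?_)
      · rintro _ ⟨w, hw, rfl⟩
        have h1 := hB (0, -w) (by rw [hk1]; exact ⟨zero_mem _, neg_mem hw⟩)
        show ((0, C.d w) : C.G × C.G) ∈ T
        have e : C.stepD f.1 (0, -w) = ((0, C.d w) : C.G × C.G) := by
          show (C.d 0, (f : A) • (0 : C.G) - C.d (-w)) = _
          rw [map_zero, smul_zero, zero_sub, map_neg, neg_neg]
        rwa [e] at h1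
      · intro r hr z' hz'
        induction hr using Submodule.span_induction with
        | mem r hr =>
          obtain ⟨g, hg, rfl⟩ := hr
          show ((0, (g : A) • z') : C.G × C.G) ∈ T
          rcases List.mem_cons.1 hg with hgf | hgl
          · subst g
            have h1 := hB (z', 0) (by rw [hk1]; exact ⟨hz'.1, zero_mem _⟩)
            have e : C.stepD f.1 (z', 0) = ((0, (f : A) • z') : C.G × C.G) := by
              show (C.d z', (f : A) • z' - C.d 0) = _
              rw [show C.d z' = 0 from hz'.2, map_zero, sub_zero]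
            rwa [e] at h1
          · have h1 : (g : A) • ((0, z') : C.G × C.G) ∈ T :=
              Submodule.mem_sup_right (Submodule.smul_mem_smul (Ideal.subset_span ⟨g, hgl, rfl⟩)
                (C.mem_step_Z (hJ f.1 f.2) (zero_mem _) (by simpa using hz'.1) (map_zero _)
                  (by rw [show C.d z' = 0 from hz'.2, smul_zero])))
            rwa [Prod.smul_mk, smul_zero] at h1
        | zero => rw [zero_smul]; exact zero_mem _
        | add r r' _ _ h1 h2 => rw [add_smul]; exact add_mem h1 h2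
        | smul a r _ h1 => rw [smul_assoc]; exact Submodule.smul_mem _ a h1
    have hsub := sub_mem (hB _ hc0) (key _ (h _ hz hπ'))
    have e : C.stepD f.1 (c, 0) - ((0, (f : A) • c - p.2) : C.G × C.G) = p := by
      refine Prod.ext ?_ ?_
      · show C.d c - 0 = p.1
        rw [sub_zero, hdc]
      · show (f : A) • c - C.d 0 - ((f : A) • c - p.2) = p.2
        rw [map_zero, sub_zero, sub_sub_cancel]
    rwa [e] at hsub

/-- Elements of the base killed by a list. -/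
def killedBy (C : Stair.{u} A Q) (p : List J) : Submodule A C.G :=
  ⨅ f ∈ p, LinearMap.ker (DistribSMul.toLinearMap A C.G (f : A))

lemma mem_killedBy {C : Stair.{u} A Q} {p : List J} {x : C.G} : x ∈ killedBy C p ↔ ∀ f ∈ p, (f : A) • x = 0 := by
  simp [killedBy]

/-- A map into `C` from a complex `(S, dS)` inducing a bijection on cohomology. -/
structure QIso (S : Type u) [AddCommGroup S] [Module A S] (dS : S →ₗ[A] S) (degS : ℤ → Submodule A S)
    (C : Stair.{u} A Q) (i : S →ₗ[A] C.G) (P : Submodule A S) : Prop where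
  surj : ∀ (n : ℤ), ∀ y ∈ C.Z n, ∃ s ∈ P, s ∈ degS n ∧ dS s = 0 ∧ ∃ x ∈ C.deg (n - 1), y = i s + C.d x
  inj : ∀ (n : ℤ), ∀ s ∈ P, s ∈ degS n → dS s = 0 → (∃ x ∈ C.deg (n - 1), i s = C.d x) →
    ∃ t ∈ P, t ∈ degS (n - 1) ∧ dS t = s

variable {S : Type u} [AddCommGroup S] [Module A S] {dS : S →ₗ[A] S} {degS : ℤ → Submodule A S}

theorem qiso_step {C : Stair.{u} A Q} {i : S →ₗ[A] C.G} {P : Submodule A S}
    (hdeg : ∀ {n : ℤ} {s : S}, s ∈ degS n → i s ∈ C.deg n ∧ dS s ∈ degS (n + 1)) (hdd : ∀ s, dS (dS s) = 0)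
    (hid : ∀ s ∈ P, i (dS s) = C.d (i s)) (hP : ∀ s ∈ P, dS s ∈ P) (h : QIso S dS degS C i P)
    {f : A} (hf : Kills (Q := Q) f)
    (hsurj : ∀ (n : ℤ), ∀ s ∈ P, s ∈ degS n → ∃ t ∈ P, t ∈ degS n ∧ f • t = s) :
    QIso S dS degS (C.step f hf) ((LinearMap.inl A C.G C.G).comp i)
      (P ⊓ LinearMap.ker (DistribSMul.toLinearMap A S f)) := by
  constructor
  · rintro n ⟨a, b⟩ ⟨⟨ha, hb⟩, hd⟩
    obtain ⟨s, hsP, hsn, hds, c, hc, rfl⟩ := h.surj n a ⟨ha, congrArg Prod.fst hd⟩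
    have hfab : f • (i s + C.d c) = C.d b := sub_eq_zero.1 (congrArg Prod.snd hd)
    obtain ⟨t, htP, htn, hdt⟩ := h.inj n (f • s) (P.smul_mem f hsP) ((degS n).smul_mem f hsn)
      (by rw [map_smul, hds, smul_zero]) ⟨b - f • c, sub_mem hb ((C.deg _).smul_mem f hc), by
        rw [map_sub, map_smul, map_smul, ← hfab, smul_add, add_sub_cancel_right]⟩
    obtain ⟨t₁, ht₁P, ht₁n, rfl⟩ := hsurj (n - 1) t htP htn
    have hb' : C.d (b - f • c - f • i t₁) = 0 := by
      rw [map_sub, map_sub, map_smul, map_smul, ← hid t₁ ht₁P, ← hfab, smul_add, add_sub_cancel_right,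
        ← map_smul i f s, ← map_smul i f (dS t₁), ← map_smul dS f t₁, hdt, sub_self]
    obtain ⟨v, hvP, hvn, hdv, w, hw, hbv⟩ := h.surj (n - 1) (b - f • c - f • i t₁)
      ⟨sub_mem (sub_mem hb ((C.deg _).smul_mem f hc)) ((C.deg _).smul_mem f (hdeg ht₁n).1), hb'⟩
    obtain ⟨u, huP, hun, rfl⟩ := hsurj (n - 1) v hvP hvn
    have hdtn : ∀ {x : S}, x ∈ degS (n - 1) → dS x ∈ degS n := fun hx => by simpa using (hdeg hx).2
    refine ⟨s - dS (t₁ + u), ⟨sub_mem hsP (hP _ (add_mem ht₁P huP)), ?_⟩,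
      sub_mem hsn (hdtn (add_mem ht₁n hun)), by rw [map_sub, hds, hdd, sub_zero],
      (c + i t₁ + i u, -w), ⟨add_mem (add_mem hc (hdeg ht₁n).1) (hdeg hun).1, neg_mem hw⟩, ?_⟩
    · show f • (s - dS (t₁ + u)) = 0
      rw [smul_sub, map_add, smul_add, ← map_smul dS f u, hdv, ← map_smul dS f t₁, hdt, add_zero, sub_self]
    · refine Prod.ext ?_ ?_
      · show i s + C.d c = i (s - dS (t₁ + u)) + C.d (c + i t₁ + i u)
        rw [map_sub, map_add dS, map_add i, map_add C.d, map_add C.d, hid t₁ ht₁P, hid u huP]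
        abel
      · show b = 0 + (f • (c + i t₁ + i u) - C.d (-w))
        rw [map_neg, sub_neg_eq_add, zero_add, smul_add, smul_add, ← map_smul i f u, add_assoc _ _ (C.d w), ← hbv]
        abel
  · rintro n s ⟨hsP, hfs⟩ hsn hds ⟨⟨c, w⟩, ⟨hc, hw⟩, he⟩
    have e1 : i s = C.d c := congrArg Prod.fst he
    have e2 : (0 : C.G) = f • c - C.d w := congrArg Prod.snd he
    obtain ⟨u, huP, hun, rfl⟩ := h.inj n s hsP hsn hds ⟨c, hc, e1⟩
    obtain ⟨v, hvP, hvn, hdv, p, hp, hcv⟩ := h.surj (n - 1) (c - i u) ⟨sub_mem hc (hdeg hun).1, by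
      show C.d (c - i u) = 0
      rw [map_sub, ← hid u huP, e1, sub_self]⟩
    have hfs' : f • dS u = 0 := hfs
    obtain ⟨q, hqP, hqn, hdq⟩ := h.inj (n - 1) (f • (u + v)) (P.smul_mem f (add_mem huP hvP))
      ((degS _).smul_mem f (add_mem hun hvn)) (by rw [map_smul, map_add, hdv, add_zero, hfs'])
      ⟨w - f • p, sub_mem hw ((C.deg _).smul_mem f hp), by
        rw [map_sub, map_smul, map_smul, map_add, ← sub_eq_zero.1 e2.symm, ← smul_sub,
          eq_sub_of_add_eq hcv.symm]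
        congr 1
        abel⟩
    obtain ⟨q₁, hq₁P, hq₁n, rfl⟩ := hsurj (n - 1 - 1) q hqP hqn
    refine ⟨u + v - dS q₁, ⟨sub_mem (add_mem huP hvP) (hP _ hq₁P), ?_⟩,
      sub_mem (add_mem hun hvn) (by simpa using (hdeg hq₁n).2), by rw [map_sub, map_add, hdd, hdv, add_zero, sub_zero]⟩
    show f • (u + v - dS q₁) = 0
    rw [smul_sub, ← map_smul dS, hdq, sub_self]

theorem killedBy_append (C : Stair.{u} A Q) (p : List J) (f : J) :
    killedBy C p ⊓ LinearMap.ker (DistribSMul.toLinearMap A C.G (f : A)) = killedBy C (p ++ [f]) := by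
  ext x
  simp only [Submodule.mem_inf, mem_killedBy, List.mem_append, List.mem_singleton, LinearMap.mem_ker,
    DistribSMul.toLinearMap_apply]
  exact ⟨fun h g hg => hg.elim (h.1 g) (fun e => e ▸ h.2), fun h => ⟨fun g hg => h g (Or.inl hg), h f (Or.inr rfl)⟩⟩

theorem qiso_build (C₀ : Stair.{u} A Q)
    : ∀ (l p : List J) (C : Stair.{u} A Q) (i : C₀.G →ₗ[A] C.G),
      (∀ (p' : List J) (f : J) (l' : List J), p ++ l = p' ++ f :: l' → ∀ (n : ℤ), ∀ s ∈ killedBy C₀ p',
        s ∈ C₀.deg n → ∃ t ∈ killedBy C₀ p', t ∈ C₀.deg n ∧ (f : A) • t = s) →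
      (∀ {n : ℤ} {s : C₀.G}, s ∈ C₀.deg n → i s ∈ C.deg n) →
      (∀ s ∈ killedBy C₀ p, i (C₀.d s) = C.d (i s)) →
      QIso C₀.G C₀.d C₀.deg C i (killedBy C₀ p) →
      QIso C₀.G C₀.d C₀.deg (build hJ C l) ((inc hJ C l).comp i) (killedBy C₀ (p ++ l))
  | [], p, C, i, _, _, _, h => by
    rw [List.append_nil]
    exact h
  | f :: l, p, C, i, hs, hdeg, hid, h => by
    have hP : ∀ s ∈ killedBy C₀ p, C₀.d s ∈ killedBy C₀ p := fun s hs' => mem_killedBy.2 fun g hg => by
      rw [← map_smul, mem_killedBy.1 hs' g hg, map_zero]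
    have h' := qiso_step (fun hx => ⟨hdeg hx, C₀.d_mem hx⟩) C₀.dd hid hP h (hJ f.1 f.2)
      (hs p f l rfl)
    rw [killedBy_append] at h'
    rw [show p ++ f :: l = p ++ [f] ++ l by simp]
    exact qiso_build C₀ l (p ++ [f]) (C.step f.1 _) ((LinearMap.inl A C.G C.G).comp i)
      (by intro p' g l' e; exact hs p' g l' (by simpa using e))
      (fun hx => ⟨hdeg hx, zero_mem _⟩)
      (fun s hs' => Prod.ext (hid s (mem_killedBy.2 fun g hg => mem_killedBy.1 hs' g (List.mem_append_left _ hg))) (by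
        show (0 : C.G) = (f : A) • i s - C.d 0
        rw [map_zero, sub_zero, ← map_smul, mem_killedBy.1 hs' f (by simp), map_zero]))
      h'

/-- **The staircase is bijective on cohomology for a regular generating list.** -/
theorem bijective_ev (C : Stair.{u} A Q) (l : List J) (hspan : Ideal.span {a | ∃ f ∈ l, (f : A) = a} = J)
    (hker : ∀ z ∈ C.Z C.k, C.π z = 0 → z ∈ (C.deg (C.k - 1)).map C.d ⊔ J • C.Z C.k)
    (hsurj : ∀ q, ∃ z ∈ C.Z C.k, C.π z = q)
    (hreg : ∀ (p : List J) (f : J) (l' : List J), l = p ++ f :: l' → ∀ (n : ℤ), ∀ s ∈ killedBy C p,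
        s ∈ C.deg n → ∃ t ∈ killedBy C p, t ∈ C.deg n ∧ (f : A) • t = s) :
    (∀ q, ∃ e ∈ C.Z (C.k + l.length), (∀ a : J, (a : A) • e = 0) ∧ ev hJ C l e = q) ∧
    ∀ e ∈ C.Z (C.k + l.length), (∀ a : J, (a : A) • e = 0) → ev hJ C l e = 0 →
      ∃ t ∈ C.deg (C.k + l.length - 1), (∀ a : J, (a : A) • t = 0) ∧ C.d t = e := by
  have h0 : QIso C.G C.d C.deg C LinearMap.id (killedBy C ([] : List J)) :=
    ⟨fun n y hy => ⟨y, mem_killedBy.2 (by simp), hy.1, hy.2, 0, zero_mem _, by simp⟩,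
      fun n s _ _ _ ⟨x, hx, e⟩ => ⟨x, mem_killedBy.2 (by simp), hx, e.symm⟩⟩
  have hq := qiso_build hJ C l [] C LinearMap.id hreg (fun h => h) (fun _ _ => rfl) h0
  rw [List.nil_append, LinearMap.comp_id] at hq
  have hall : ∀ {x : C.G}, x ∈ killedBy C l → ∀ a : J, (a : A) • x = 0 := fun {x} hx a => by
    have : J ≤ (A ∙ x).annihilator := by
      rw [← hspan, Ideal.span_le]
      rintro _ ⟨g, hg, rfl⟩
      exact Submodule.mem_annihilator_span_singleton x _ |>.2 (mem_killedBy.1 hx g hg)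
    exact (Submodule.mem_annihilator_span_singleton x _).1 (this a.2)
  refine ⟨fun q => ?_, fun e he hk hev => ?_⟩
  · obtain ⟨z, hz, hzq⟩ := π_build_surj hJ l C hsurj q
    obtain ⟨s, hsP, hsn, hds, x, hx, rfl⟩ := hq.surj _ z hz
    refine ⟨s, ⟨by rw [← build_k hJ l C]; exact hsn, hds⟩, hall hsP, ?_⟩
    have hs := inc_Z hJ l C (e := s) ⟨hsn, hds⟩ (fun g hg => hall hsP g)
    have hdx := (build hJ C l).d_mem_Z hx
    rw [(build hJ C l).π_add _ _ hs.1 hs.2 hdx.1 hdx.2, (build hJ C l).π_d x hx, add_zero] at hzq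
    exact hzq
  · have hz := inc_Z hJ l C he fun g _ => hk g
    rw [← build_k hJ l C] at hz
    have hb := kerP_build hJ l C (fun z hz hπ => by rw [hspan]; exact hker z hz hπ) _ hz hev
    rw [show {a : A | ∃ g ∈ ([] : List J), (g : A) = a} = ∅ by simp, Ideal.span_empty, Submodule.bot_smul, sup_bot_eq]
      at hb
    obtain ⟨x, hx, hxe⟩ := hb
    obtain ⟨t, htP, htn, hdt⟩ := hq.inj _ e (mem_killedBy.2 fun g _ => hk g) (by rw [build_k]; exact he.1) he.2
      ⟨x, hx, hxe.symm⟩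
    exact ⟨t, by rw [← build_k hJ l C]; exact htn, hall htP, hdt⟩

end Groth.Agent.FundLocal.Stair
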