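import Groth.Agent.FundLocal.Stair

/-!
# Iterating the staircase: functoriality, symmetry, multilinearity
-/

set_option autoImplicit false
set_option linter.style.haveILetI false

universe u

namespace Groth.Agent.FundLocal.Stair

variable {A : Type u} [CommRing A] {Q : Type u} [AddCommGroup Q] [Module A Q]
  {B : Type u} [CommRing B] {Q' : Type u} [AddCommGroup Q'] [Module B Q']

/-- A semilinear morphism of staircases. -/
structure Hom (φ : A →+* B) (q : Q →+ Q') (C : Stair.{u} A Q) (D : Stair.{u} B Q') where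
  g : C.G →+ D.G
  g_smul : ∀ (a : A) (x : C.G), g (a • x) = φ a • g x
  g_d : ∀ x, g (C.d x) = D.d (g x)
  g_deg : ∀ {n : ℤ} {x : C.G}, x ∈ C.deg n → g x ∈ D.deg n
  k_eq : D.k = C.k
  g_π : ∀ {x : C.G}, x ∈ C.Z C.k → q (C.π x) = D.π (g x)

variable {φ : A →+* B} {q : Q →+ Q'} {C : Stair.{u} A Q} {D : Stair.{u} B Q'}

lemma Hom.g_Z (h : Hom φ q C D) {n : ℤ} {x : C.G} (hx : x ∈ C.Z n) : h.g x ∈ D.Z n :=
  ⟨h.g_deg hx.1, by show D.d (h.g x) = 0; rw [← h.g_d, show C.d x = 0 from hx.2, map_zero]⟩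

/-- A morphism induces one of the cocones. -/
noncomputable def Hom.step (h : Hom φ q C D) {f : A} {f' : B} (hff : φ f = f') (hf : Kills (Q := Q) f)
    (hf' : Kills (Q := Q') f') : Hom φ q (C.step f hf) (D.step f' hf') where
  g := h.g.prodMap h.g
  g_smul a x := Prod.ext (h.g_smul a x.1) (h.g_smul a x.2)
  g_d x := Prod.ext (h.g_d x.1) (by
    show h.g (f • x.1 - C.d x.2) = f' • h.g x.1 - D.d (h.g x.2)
    rw [map_sub, h.g_smul, h.g_d, hff])
  g_deg hx := ⟨h.g_deg hx.1, h.g_deg hx.2⟩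
  k_eq := by show D.k + 1 = C.k + 1; rw [h.k_eq]
  g_π {x} hx := by
    obtain ⟨hx1, hx2⟩ := hx
    obtain ⟨c, hc, hdc⟩ := C.exists_lift hx1 hx2
    have hk := h.k_eq
    show q (C.stepπ f x) = D.stepπ f' (h.g x.1, h.g x.2)
    rw [C.stepπ_eq hf hx1 hx2 hc hdc, h.g_π (C.aux_mem f hx1 hx2 hc hdc),
      D.stepπ_eq hf' (p := (h.g x.1, h.g x.2)) (c := h.g c)
        (by rw [hk]; exact ⟨h.g_deg hx1.1, h.g_deg hx1.2⟩)
        (Prod.ext (by show D.d (h.g x.1) = 0; rw [← h.g_d, show C.d x.1 = 0 from congrArg Prod.fst hx2]; exact map_zero _)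
          (by show f' • h.g x.1 - D.d (h.g x.2) = 0
              rw [← hff, ← h.g_smul, ← h.g_d, ← map_sub, show f • x.1 - C.d x.2 = 0 from congrArg Prod.snd hx2,
                map_zero]))
        (by rw [hk]; exact h.g_deg hc) (by show D.d (h.g c) = h.g x.1; rw [← h.g_d, hdc]),
      map_sub, h.g_smul, hff]

/-- Swapping the last two steps negates the value. -/
noncomputable def swapHom (C : Stair.{u} A Q) {f g : A} (hf : Kills (Q := Q) f) (hg : Kills (Q := Q) g) :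
    Hom (RingHom.id A) (-AddMonoidHom.id Q) ((C.step f hf).step g hg) ((C.step g hg).step f hf) where
  g :=
    { toFun := fun p => ((p.1.1, p.2.1), (p.1.2, -p.2.2))
      map_zero' := Prod.ext rfl (Prod.ext rfl neg_zero)
      map_add' := fun p p' => Prod.ext rfl (Prod.ext rfl (neg_add p.2.2 p'.2.2)) }
  g_smul a x := by
    show ((a • x.1.1, a • x.2.1), (a • x.1.2, -(a • x.2.2))) = a • ((x.1.1, x.2.1), (x.1.2, -x.2.2))
    rw [← smul_neg]
    rfl
  g_d x := by
    show ((C.d x.1.1, g • x.1.1 - C.d x.2.1),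
        (f • x.1.1 - C.d x.1.2, -(g • x.1.2 - (f • x.2.1 - C.d x.2.2)))) =
      ((C.d x.1.1, g • x.1.1 - C.d x.2.1), (f • x.1.1 - C.d x.1.2, f • x.2.1 - (g • x.1.2 - C.d (-x.2.2))))
    rw [map_neg]
    congr 2
    abel
  g_deg {n x} hx := ⟨⟨hx.1.1, hx.2.1⟩, ⟨hx.1.2, neg_mem hx.2.2⟩⟩
  k_eq := rfl
  g_π {x} hx := by
    obtain ⟨⟨hxa, hxb⟩, hdx⟩ := hx
    obtain ⟨⟨p, r⟩, hpr, hdpr⟩ := (C.step f hf).exists_lift (f := g) ⟨hxa, hxb⟩ hdx
    have hz := (C.step f hf).aux_mem g ⟨hxa, hxb⟩ hdx hpr hdpr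
    obtain ⟨w, hw, hdw⟩ := C.exists_lift (f := f) hz.1 hz.2
    have e1 : C.d p = x.1.1 := congrArg Prod.fst hdpr
    have e2 : f • p - C.d r = x.1.2 := congrArg Prod.snd hdpr
    have e3 : C.d w = g • p - x.2.1 := hdw
    have k1 : ((C.step f hf).step g hg).π x = C.π (f • w - (g • r - x.2.2)) :=
      ((C.step f hf).stepπ_eq hg ⟨hxa, hxb⟩ hdx hpr hdpr).trans (C.stepπ_eq hf hz.1 hz.2 hw hdw)
    have hr : r ∈ C.deg C.k := by simpa [step] using hpr.2
    let y : (C.G × C.G) × (C.G × C.G) := ((x.1.1, x.2.1), (x.1.2, -x.2.2))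
    have hy1 : y ∈ (C.step g hg).stepDeg ((C.step g hg).k + 1) := ⟨⟨hxa.1, hxb.1⟩, ⟨hxa.2, neg_mem hxb.2⟩⟩
    have hy2 : (C.step g hg).stepD f y = 0 := by
      have q1 : C.d x.1.1 = 0 := congrArg (fun z : (C.G × C.G) × (C.G × C.G) => z.1.1) hdx
      have q2 : f • x.1.1 - C.d x.1.2 = 0 := congrArg (fun z : (C.G × C.G) × (C.G × C.G) => z.1.2) hdx
      have q3 : g • x.1.1 - C.d x.2.1 = 0 := congrArg (fun z : (C.G × C.G) × (C.G × C.G) => z.2.1) hdx
      have q4 : g • x.1.2 - (f • x.2.1 - C.d x.2.2) = 0 :=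
        congrArg (fun z : (C.G × C.G) × (C.G × C.G) => z.2.2) hdx
      show ((C.d x.1.1, g • x.1.1 - C.d x.2.1),
        (f • x.1.1 - C.d x.1.2, f • x.2.1 - (g • x.1.2 - C.d (-x.2.2)))) = 0
      rw [q1, q2, q3, map_neg, show f • x.2.1 - (g • x.1.2 - -C.d x.2.2) =
        -(g • x.1.2 - (f • x.2.1 - C.d x.2.2)) by abel, q4, neg_zero]
      rfl
    have hc : ((p, w) : C.G × C.G) ∈ (C.step g hg).deg (C.step g hg).k := ⟨hpr.1, by simpa [step] using hw⟩
    have hdc : (C.step g hg).d (p, w) = y.1 := Prod.ext e1 (by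
      show g • p - C.d w = x.2.1
      rw [e3, sub_sub_cancel])
    have hz' := (C.step g hg).aux_mem f hy1 hy2 hc hdc
    have k2 : ((C.step g hg).step f hf).π y = C.π (g • r - (f • w - -x.2.2)) :=
      ((C.step g hg).stepπ_eq hf hy1 hy2 hc hdc).trans
        (C.stepπ_eq hg hz'.1 hz'.2 hr (by
          show C.d r = f • p - x.1.2
          rw [← e2, sub_sub_cancel]))
    show -((C.step f hf).step g hg).π x = ((C.step g hg).step f hf).π y
    rw [k1, k2]
    refine (C.π_neg (C.aux_mem f hz.1 hz.2 hw hdw)).symm.trans ?_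
    congr 1
    show -(f • w - (g • r - x.2.2)) = g • r - (f • w - -x.2.2)
    abel

variable {J : Ideal A} (hJ : ∀ a ∈ J, ∀ q : Q, a • q = 0)

/-- Iterated cocones along a list of elements of `J`, the head applied first. -/
noncomputable def build : Stair.{u} A Q → List J → Stair.{u} A Q
  | C, [] => C
  | C, f :: l => build (C.step f.1 (hJ f.1 f.2)) l

/-- The inclusion into the iterated cocone. -/
noncomputable def inc : (C : Stair.{u} A Q) → (l : List J) → C.G →ₗ[A] (build hJ C l).G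
  | _, [] => LinearMap.id
  | C, f :: l => (inc (C.step f.1 (hJ f.1 f.2)) l).comp (LinearMap.inl A C.G C.G)

/-- The value of the staircase. -/
noncomputable def ev (C : Stair.{u} A Q) (l : List J) (e : C.G) : Q := (build hJ C l).π (inc hJ C l e)

lemma build_k : ∀ (l : List J) (C : Stair.{u} A Q), (build hJ C l).k = C.k + l.length
  | [], C => by simp [build]
  | f :: l, C => by
    show (build hJ (C.step f.1 _) l).k = _
    rw [build_k l]
    show C.k + 1 + _ = _
    rw [List.length_cons, Nat.cast_succ]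
    abel

lemma inc_Z : ∀ (l : List J) (C : Stair.{u} A Q) {n : ℤ} {e : C.G}, e ∈ C.Z n → (∀ f ∈ l, (f : A) • e = 0) →
    inc hJ C l e ∈ (build hJ C l).Z n
  | [], _, _, _, he, _ => he
  | f :: l, C, n, e, he, hk => by
    refine inc_Z l (C.step f.1 _) (C.mem_step_Z _ he.1 (zero_mem _) he.2 ?_) fun g hg => ?_
    · show C.d 0 = (f : A) • e
      rw [map_zero, hk f (by simp)]
    · exact Prod.ext (hk g (List.mem_cons_of_mem _ hg)) (smul_zero _)

lemma inc_d : ∀ (l : List J) (C : Stair.{u} A Q) {e : C.G}, (∀ f ∈ l, (f : A) • e = 0) →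
    inc hJ C l (C.d e) = (build hJ C l).d (inc hJ C l e)
  | [], _, _, _ => rfl
  | f :: l, C, e, hk => by
    have h : (C.step f.1 (hJ f.1 f.2)).d (e, 0) = (C.d e, 0) := by
      show (C.d e, f.1 • e - C.d 0) = _
      rw [hk f (by simp), map_zero, sub_zero]
    show inc hJ (C.step f.1 _) l ((C.d e, 0) : C.G × C.G) = _
    rw [← h]
    exact inc_d l (C.step f.1 _) fun g hg => Prod.ext (hk g (List.mem_cons_of_mem _ hg)) (smul_zero _)

lemma inc_deg : ∀ (l : List J) (C : Stair.{u} A Q) {n : ℤ} {e : C.G}, e ∈ C.deg n →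
    inc hJ C l e ∈ (build hJ C l).deg n
  | [], _, _, _, he => he
  | f :: l, C, _, _, he => inc_deg l (C.step f.1 (hJ f.1 f.2)) ⟨he, zero_mem _⟩

lemma ev_d (C : Stair.{u} A Q) (l : List J) {e : C.G} (he : e ∈ C.deg (C.k + l.length - 1))
    (hk : ∀ f ∈ l, (f : A) • e = 0) : ev hJ C l (C.d e) = 0 := by
  rw [ev, inc_d hJ l C hk]
  exact (build hJ C l).π_d _ (by rw [build_k]; exact inc_deg hJ l C he)

lemma ev_add (C : Stair.{u} A Q) (l : List J) {e e' : C.G} (he : e ∈ C.Z (C.k + l.length))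
    (hk : ∀ f ∈ l, (f : A) • e = 0) (he' : e' ∈ C.Z (C.k + l.length)) (hk' : ∀ f ∈ l, (f : A) • e' = 0) :
    ev hJ C l (e + e') = ev hJ C l e + ev hJ C l e' := by
  have h := inc_Z hJ l C he hk
  have h' := inc_Z hJ l C he' hk'
  rw [← build_k hJ l C] at h h'
  rw [ev, map_add]
  exact (build hJ C l).π_add _ _ h.1 h.2 h'.1 h'.2

lemma ev_smul (C : Stair.{u} A Q) (l : List J) {e : C.G} (he : e ∈ C.Z (C.k + l.length))
    (hk : ∀ f ∈ l, (f : A) • e = 0) (a : A) : ev hJ C l (a • e) = a • ev hJ C l e := by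
  have h := inc_Z hJ l C he hk
  rw [← build_k hJ l C] at h
  rw [ev, map_smul]
  exact (build hJ C l).π_smul a _ h.1 h.2

end Groth.Agent.FundLocal.Stair
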