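import Groth.Agent.FundLocal.Good

/-!
# The morphism from cocycles of `Hom(ι_* O_X, I)` to `ι_* Hom(L, ι^* F)`
-/

set_option autoImplicit false
set_option linter.style.haveILetI false

universe u

open CategoryTheory CategoryTheory.Limits Opposite AlgebraicGeometry TopologicalSpace

namespace Groth.Agent.FundLocal

open Groth.Agent.ModGroth

/-- Alternating maps out of a module generated by a family agree if they agree on it. -/
theorem alternatingMap_ext {A M N : Type u} [CommRing A] [AddCommGroup M] [Module A M] [AddCommGroup N] [Module A N]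
    {r : ℕ} (g g' : M [⋀^Fin r]→ₗ[A] N) (f : Fin r → M) (hf : ∀ m, ∃ c : Fin r → A, ∑ i, c i • f i = m)
    (h : g f = g' f) : g = g' := by
  classical
  let p : (Fin r → A) →ₗ[A] M := Fintype.linearCombination A f
  have hp : Function.Surjective p := fun m => by
    obtain ⟨c, hc⟩ := hf m
    exact ⟨c, by rw [Fintype.linearCombination_apply]; exact hc⟩
  have he : g.compLinearMap p = g'.compLinearMap p := by
    refine Module.Basis.ext_alternating (Pi.basisFun A (Fin r)) fun v hv => ?_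
    have hv' : (fun i => p (Pi.basisFun A (Fin r) (v i))) = f ∘ v := funext fun i => by
      rw [Pi.basisFun_apply, Fintype.linearCombination_apply_single, one_smul]
      rfl
    show g (fun i => p (Pi.basisFun A (Fin r) (v i))) = g' (fun i => p (Pi.basisFun A (Fin r) (v i)))
    rw [hv', show f ∘ v = f ∘ Equiv.ofBijective v (Finite.injective_iff_bijective.1 hv) from rfl,
      AlternatingMap.map_perm, AlternatingMap.map_perm, h]
  ext x
  choose c hc using fun i => hp (x i)
  rw [← funext hc]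
  exact congrArg (fun q : (Fin r → A) [⋀^Fin r]→ₗ[A] N => q c) he

variable {P X : Scheme.{u}} (ι : X ⟶ P) [IsClosedImmersion ι] [ModSite.HasSheafHom (O := P.sheaf) (oX ι)]
  {F : P.Modules} [F.IsQuasicoherent] (I : InjectiveResolution F) {r : ℕ} {L : X.Modules}
  [ModSite.HasSheafHom (O := X.sheaf) L]
  (φ : ∀ U : X.affineOpens, (L.val.obj (op U.1)) ≃ₗ[Γ(X, U.1)] ↥(⋀[Γ(X, U.1)]^r ((Omega.conormal ι).val.obj (op U.1))))

/-- `Hom(L, ι^* F)`. -/
noncomputable abbrev homL (F : P.Modules) : X.Modules :=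
  (ModSite.sheafHom (O := X.sheaf) L).obj ((Scheme.Modules.pullback ι).obj F)

/-- `ι_* Hom(L, ι^* F)`. -/
noncomputable abbrev cod (F : P.Modules) : P.Modules := (Scheme.Modules.pushforward ι).obj (homL ι (L := L) F)

/-- Evaluation of a section of `ι_* Hom(L, ι^* F)`. -/
noncomputable def evL {V : P.Opens} (v : Γ(cod ι (L := L) F, V)) (s : L.val.obj (op (ι ⁻¹ᵁ V))) : Γ(target ι F, V) :=
  LocBasis.evSec (O := X.sheaf) L ((Scheme.Modules.pullback ι).obj F) v s

omit [ModSite.HasSheafHom (O := P.sheaf) (oX ι)] [F.IsQuasicoherent] [IsClosedImmersion ι] in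
lemma evL_add_left {V : P.Opens} (v v' : Γ(cod ι (L := L) F, V)) (s : L.val.obj (op (ι ⁻¹ᵁ V))) :
    evL ι (v + v') s = evL ι v s + evL ι v' s :=
  LocBasis.evSec_add (O := X.sheaf) L ((Scheme.Modules.pullback ι).obj F) v v' s

omit [ModSite.HasSheafHom (O := P.sheaf) (oX ι)] [F.IsQuasicoherent] [IsClosedImmersion ι] in
lemma evL_smul_left {V : P.Opens} (a : Γ(P, V)) (v : Γ(cod ι (L := L) F, V)) (s : L.val.obj (op (ι ⁻¹ᵁ V))) :
    evL ι (a • v) s = a • evL ι v s :=
  LocBasis.evSec_smul (O := X.sheaf) L ((Scheme.Modules.pullback ι).obj F) (ι.app V a) v s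

omit [ModSite.HasSheafHom (O := P.sheaf) (oX ι)] [F.IsQuasicoherent] [IsClosedImmersion ι] in
lemma evL_smul_right {V : P.Opens} (c : Γ(P, V)) (v : Γ(cod ι (L := L) F, V)) (s : L.val.obj (op (ι ⁻¹ᵁ V))) :
    evL ι v ((show Γ(X, ι ⁻¹ᵁ V) from ι.app V c) • s) = c • evL ι v s :=
  LocBasis.evSec_smul' (O := X.sheaf) L ((Scheme.Modules.pullback ι).obj F) (ι.app V c) v s

omit [ModSite.HasSheafHom (O := P.sheaf) (oX ι)] [F.IsQuasicoherent] [IsClosedImmersion ι] in
lemma evL_add_right {V : P.Opens} (v : Γ(cod ι (L := L) F, V)) (s s' : L.val.obj (op (ι ⁻¹ᵁ V))) :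
    evL ι v (s + s') = evL ι v s + evL ι v s' :=
  LocBasis.evSec_add' (O := X.sheaf) L ((Scheme.Modules.pullback ι).obj F) v s s'

omit [ModSite.HasSheafHom (O := P.sheaf) (oX ι)] [F.IsQuasicoherent] [IsClosedImmersion ι] in
lemma evL_zero_right {V : P.Opens} (v : Γ(cod ι (L := L) F, V)) : evL ι v 0 = 0 :=
  LocBasis.evSec_zero' (O := X.sheaf) L ((Scheme.Modules.pullback ι).obj F) v

omit [ModSite.HasSheafHom (O := P.sheaf) (oX ι)] [F.IsQuasicoherent] [IsClosedImmersion ι] in
lemma evL_res {V W : P.Opens} (h : W ≤ V) (v : Γ(cod ι (L := L) F, V)) (s : L.val.obj (op (ι ⁻¹ᵁ V))) :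
    (target ι F).presheaf.map (homOfLE h).op (evL ι v s) =
      evL ι ((cod ι (L := L) F).presheaf.map (homOfLE h).op v) (L.val.map (homOfLE (ι.preimage_mono h)).op s) :=
  LocBasis.evSec_res (O := X.sheaf) L ((Scheme.Modules.pullback ι).obj F) (homOfLE (ι.preimage_mono h)) v s

/-- `x ↦ v (ω x)` as an alternating map. -/
noncomputable def omAlt {V : P.Opens} (hV : IsAffineOpen V) (v : Γ(cod ι (L := L) F, V)) :
    vanI ι V [⋀^Fin r]→ₗ[Γ(P, V)] Γ(target ι F, V) where
  toFun x := evL ι v (omega ι φ hV x)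
  map_update_add' {_} x i y y' := by
    rw [← evL_add_right, omega_update, omega_update, omega_update, cls_add, AlternatingMap.map_update_add]
    exact congrArg (evL ι v) (map_add (φ (preAff ι hV)).symm _ _)
  map_update_smul' {_} x i c y := by
    rw [omega_update, omega_update, cls_smul, AlternatingMap.map_update_smul]
    exact (congrArg (evL ι v) ((φ (preAff ι hV)).symm.map_smul _ _)).trans (evL_smul_right ι c v _)
  map_eq_zero_of_eq' x i j hx hij := by
    rw [omega, (exteriorPower.ιMulti _ r).map_eq_zero_of_eq (fun j => cls ι hV (x j)) (congrArg (cls ι hV) hx) hij]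
    exact (congrArg (evL ι v) (map_zero (φ (preAff ι hV)).symm)).trans (evL_zero_right ι v)

/-- The compatibility defining the morphism. -/
def Rel {V : P.Opens} (e : Γ(homX ι (I.cocomplex.X r), V)) (v : Γ(cod ι (L := L) F, V)) : Prop :=
  ∀ (W : P.Opens) (h : W ≤ V) (hW : IsAffineOpen W)
    (hd : (dHom ι I r).app W ((homX ι (I.cocomplex.X r)).presheaf.map (homOfLE h).op e) = 0) (x : Fin r → vanI ι W),
    evL ι ((cod ι (L := L) F).presheaf.map (homOfLE h).op v) (omega ι φ hW x) =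
      val ι I hW ((homX ι (I.cocomplex.X r)).presheaf.map (homOfLE h).op e) hd x

variable {ι I φ}

lemma val_congr {V : P.Opens} (hV : IsAffineOpen V) {t t' : Γ(homX ι (I.cocomplex.X r), V)} (e : t = t')
    (ht : (dHom ι I r).app V t = 0) (ht' : (dHom ι I r).app V t' = 0) : val ι I hV t ht = val ι I hV t' ht' := by
  subst e; rfl

lemma Rel.res {V W : P.Opens} {e : Γ(homX ι (I.cocomplex.X r), V)} {v : Γ(cod ι (L := L) F, V)}
    (hr : Rel ι I φ e v) (h : W ≤ V) :
    Rel ι I φ ((homX ι (I.cocomplex.X r)).presheaf.map (homOfLE h).op e)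
      ((cod ι (L := L) F).presheaf.map (homOfLE h).op v) := by
  intro W' h' hW' hd x
  simp only [QCohLib.map_map] at hd ⊢
  exact hr W' (h'.trans h) hW' hd x

omit [ModSite.HasSheafHom (O := P.sheaf) (oX ι)] [F.IsQuasicoherent] [IsClosedImmersion ι] in
lemma subsingleton_of_empty (G : X.Modules) {V : P.Opens} (h : ι ⁻¹ᵁ V = ⊥) :
    Subsingleton Γ((Scheme.Modules.pushforward ι).obj G, V) :=
  ⟨fun a b => QCohLib.section_ext (M := G) (show Γ(G, ι ⁻¹ᵁ V) from a) b fun x hx => absurd (h.le hx) id⟩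

omit [F.IsQuasicoherent] [ModSite.HasSheafHom (O := X.sheaf) L] in
lemma homX_eq_zero_of_empty (G : P.Modules) {V : P.Opens} (h : ι ⁻¹ᵁ V = ⊥) (t : Γ(homX ι G, V)) : t = 0 := by
  refine ev1_injective ι G V ?_
  rw [map_zero]
  have h1 : ι.app V 1 = 0 := by
    haveI : Subsingleton Γ(X, ι ⁻¹ᵁ V) := by
      rw [h]
      infer_instance
    exact Subsingleton.elim _ _
  simpa using (killed_ev1 ι G V t).smul_eq 1 h1

variable (hφ : ∀ (U U' : X.affineOpens) (h : U'.1 ≤ U.1) (e : Fin r → (Omega.conormal ι).val.obj (op U.1)),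
      L.val.map (homOfLE h).op ((φ U).symm (exteriorPower.ιMulti _ r e)) =
        (φ U').symm (exteriorPower.ιMulti _ r (fun j => (Omega.conormal ι).val.map (homOfLE h).op (e j))))
  (hι : RegImm.IsRegularImmersionOfCodim RegImm.Kind.regular r ι)

include hφ hι in
/-- The related section is unique. -/
theorem Rel.unique {V : P.Opens} {e : Γ(homX ι (I.cocomplex.X r), V)} (he : (dHom ι I r).app V e = 0)
    {v v' : Γ(cod ι (L := L) F, V)} (hv : Rel ι I φ e v) (hv' : Rel ι I φ e v') : v = v' := by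
  refine QCohLib.section_ext _ _ fun y hy => ?_
  obtain ⟨W, hyW, hWV, hW, hgood⟩ := exists_good hι V y hy
  rw [← TopCat.Presheaf.germ_res_apply (cod ι (L := L) F).presheaf (homOfLE hWV) y hyW,
    ← TopCat.Presheaf.germ_res_apply (cod ι (L := L) F).presheaf (homOfLE hWV) y hyW]
  congr 1
  rcases hgood with ⟨⟨g⟩⟩ | htriv
  · have hd : (dHom ι I r).app W ((homX ι (I.cocomplex.X r)).presheaf.map (homOfLE hWV).op e) = 0 := by
      rw [QCohLib.app_map, he, map_zero]
    refine (LocBasis.bijective_evSec (O := X.sheaf) L ((Scheme.Modules.pullback ι).obj F) (isBasis_omega φ hφ g)).1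
      (funext fun _ => ?_)
    exact (hv W hWV g.aff hd g.f).trans (hv' W hWV g.aff hd g.f).symm
  · haveI := subsingleton_of_empty (homL ι (L := L) F) htriv
    exact Subsingleton.elim _ _

include hφ in
theorem exists_rel_good {V : P.Opens} (g : Good ι r V) (e : Γ(homX ι (I.cocomplex.X r), V))
    (he : (dHom ι I r).app V e = 0) : ∃ v : Γ(cod ι (L := L) F, V), Rel ι I φ e v := by
  obtain ⟨v, hv⟩ := (LocBasis.bijective_evSec (O := X.sheaf) L ((Scheme.Modules.pullback ι).obj F)
    (isBasis_omega φ hφ g)).2 fun _ => (show Γ((Scheme.Modules.pullback ι).obj F, ι ⁻¹ᵁ V) from val ι I g.aff e he g.f)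
  have hv' : evL ι v (omega ι φ g.aff g.f) = val ι I g.aff e he g.f := congrFun hv 0
  refine ⟨v, fun W h hW hd x => ?_⟩
  have key : omAlt ι φ hW ((cod ι (L := L) F).presheaf.map (homOfLE h).op v) =
      val ι I hW ((homX ι (I.cocomplex.X r)).presheaf.map (homOfLE h).op e) hd := by
    refine alternatingMap_ext _ _ (g.res hW h).f (fun m => ?_) ?_
    · have hm : m.1 ∈ Ideal.span (Set.range fun i => ((g.res hW h).f i).1) := (g.res hW h).span.symm ▸ m.2
      obtain ⟨c, hc⟩ := Ideal.mem_span_range_iff_exists_fun.1 hm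
      exact ⟨c, Subtype.ext (by rw [AddSubmonoidClass.coe_finset_sum]; exact hc)⟩
    · show evL ι _ (omega ι φ hW (fun i => resI ι h (g.f i))) = val ι I hW _ hd (fun i => resI ι h (g.f i))
      rw [← val_res ι I g.aff hW h e he g.f, ← hv', evL_res, omega_res ι φ hφ g.aff hW h g.f]
      rfl
  exact congrArg (fun q : vanI ι W [⋀^Fin r]→ₗ[Γ(P, W)] Γ(target ι F, W) => q x) key

theorem rel_zero_of_empty {V : P.Opens} (h : ι ⁻¹ᵁ V = ⊥) (e : Γ(homX ι (I.cocomplex.X r), V))
    (v : Γ(cod ι (L := L) F, V)) : Rel ι I φ e v := by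
  intro W hWV hW hd x
  haveI := subsingleton_of_empty ((Scheme.Modules.pullback ι).obj F)
    (show ι ⁻¹ᵁ W = ⊥ from le_bot_iff.1 (h ▸ ι.preimage_mono hWV))
  exact Subsingleton.elim (α := Γ(target ι F, W)) _ _

include hφ hι in
/-- The related section exists. -/
theorem exists_rel {V : P.Opens} (e : Γ(homX ι (I.cocomplex.X r), V)) (he : (dHom ι I r).app V e = 0) :
    ∃ v : Γ(cod ι (L := L) F, V), Rel ι I φ e v := by
  choose Wy hmem hle haff hgood using fun y : V => exists_good hι V y.1 y.2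
  have hd : ∀ {W : P.Opens} (h : W ≤ V), (dHom ι I r).app W ((homX ι (I.cocomplex.X r)).presheaf.map (homOfLE h).op e) = 0 :=
    fun h => by rw [QCohLib.app_map, he, map_zero]
  have hloc : ∀ y : V, ∃ v : Γ(cod ι (L := L) F, Wy y),
      Rel ι I φ ((homX ι (I.cocomplex.X r)).presheaf.map (homOfLE (hle y)).op e) v := fun y => by
    rcases hgood y with ⟨⟨g⟩⟩ | htriv
    · exact exists_rel_good hφ g _ (hd _)
    · exact ⟨0, rel_zero_of_empty htriv _ _⟩
  choose sec hsec using hloc
  let sh : TopCat.Sheaf AddCommGrpCat.{u} P := ⟨(cod ι (L := L) F).presheaf, (cod ι (L := L) F).isSheaf⟩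
  have hcov : V ≤ iSup Wy := fun z hz => Opens.mem_iSup.2 ⟨⟨z, hz⟩, hmem ⟨z, hz⟩⟩
  obtain ⟨v, hv, -⟩ := sh.existsUnique_gluing' Wy V (fun y => homOfLE (hle y)) hcov sec fun y z => by
    have h1 := (hsec y).res (inf_le_left : Wy y ⊓ Wy z ≤ Wy y)
    have h2 := (hsec z).res (inf_le_right : Wy y ⊓ Wy z ≤ Wy z)
    rw [QCohLib.map_map] at h1 h2
    exact Rel.unique hφ hι (hd (inf_le_left.trans (hle y))) h1 h2
  refine ⟨v, fun W h hW hd' x => ?_⟩
  refine QCohLib.section_ext (M := target ι F) _ _ fun y hy => ?_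
  let z : V := ⟨y, h hy⟩
  obtain ⟨W', hW', hyW', hle'⟩ := exists_isAffineOpen_mem_and_subset (U := W ⊓ Wy z) (show y ∈ W ⊓ Wy z from ⟨hy, hmem z⟩)
  have h1 : W' ≤ W := fun w hw => (hle' hw).1
  have h2 : W' ≤ Wy z := fun w hw => (hle' hw).2
  rw [← TopCat.Presheaf.germ_res_apply (target ι F).presheaf (homOfLE h1) y hyW',
    ← TopCat.Presheaf.germ_res_apply (target ι F).presheaf (homOfLE h1) y hyW']
  congr 1
  have h3 := hsec z W' h2 hW' (by rw [QCohLib.map_map]; exact hd _) (fun i => resI ι h1 (x i))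
  have hz : sec z = (cod ι (L := L) F).presheaf.map (homOfLE (hle z)).op v := (hv z).symm
  rw [hz] at h3
  rw [evL_res, omega_res ι φ hφ hW hW' h1 x, val_res ι I hW hW' h1, QCohLib.map_map]
  rw [QCohLib.map_map] at h3
  refine h3.trans (congrArg (fun q : vanI ι W' [⋀^Fin r]→ₗ[Γ(P, W')] Γ(target ι F, W') => q fun i => resI ι h1 (x i))
    (val_congr hW' ?_ _ _))
  rw [QCohLib.map_map, QCohLib.map_map]

end Groth.Agent.FundLocal
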